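import Cfsg.Agent.Lib.CoprimeBase.FreeCase

/-!
Bases of size three for solvable completely reducible groups: definitions.
-/

set_option autoImplicit false
set_option linter.unusedSectionVars false

namespace CfsgLib.TripleBase

open CfsgLib.CoprimeBase (Pre Free Step)

universe u

/-- Three vectors whose common stabiliser acts trivially. -/
def Good3 (A V : Type*) [Group A] [AddCommGroup V] [DistribMulAction A V] (p : V × V × V) : Prop :=
  ∀ a : A, a • p.1 = p.1 → a • p.2.1 = p.2.1 → a • p.2.2 = p.2.2 → ∀ x : V, a • x = x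

/-- A base of size three exists. -/
def Base3 (A V : Type*) [Group A] [AddCommGroup V] [DistribMulAction A V] : Prop :=
  ∃ p : V × V × V, Good3 A V p

/-- The induction hypothesis. -/
def Hyp3 (n : ℕ) : Prop :=
  ∀ (A V : Type u) [Group A] [Finite A] [AddCommGroup V] [Finite V] [DistribMulAction A V],
    Nat.card V < n → Group.IsSolvable A → CfsgLib.OddBase.CR A V → Base3 A V

/-- `g` is linear and commutes with `B`. -/
def Central {Γ : Type u} [Group Γ] (L W : Type u) [Field L] [AddCommGroup W] [Module L W]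
    [DistribMulAction Γ W] (B : Subgroup Γ) (g : Γ) : Prop :=
  (∀ (c : L) (w : W), g • c • w = c • g • w) ∧ ∀ b ∈ B, ∀ w : W, g • b • w = b • g • w

/-- Three vectors, the first free, whose common stabiliser is central. -/
def Trip {Γ : Type u} [Group Γ] (L W : Type u) [Field L] [AddCommGroup W] [Module L W]
    [DistribMulAction Γ W] (B : Subgroup Γ) : Prop :=
  ∃ v w t : W, (∀ g : Γ, g • v = v → g • w = w → g • t = t → Central L W B g) ∧ v ≠ 0 ∧ Free B v

/-- Three vectors, the first nonzero, whose common stabiliser is central. -/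
def Cen3 {Γ : Type u} [Group Γ] (L W : Type u) [Field L] [AddCommGroup W] [Module L W]
    [DistribMulAction Γ W] (B : Subgroup Γ) : Prop :=
  ∃ v w t : W, (∀ g : Γ, g • v = v → g • w = w → g • t = t → Central L W B g) ∧ v ≠ 0

theorem Trip.cen3 {Γ L W : Type u} [Group Γ] [Field L] [AddCommGroup W] [Module L W]
    [DistribMulAction Γ W] {B : Subgroup Γ} (h : Trip L W B) : Cen3 L W B := by
  obtain ⟨v, w, t, hg, hv, -⟩ := h
  exact ⟨v, w, t, hg, hv⟩

variable {Γ L W : Type u} [Group Γ] [Field L] [AddCommGroup W] [Module L W] [DistribMulAction Γ W]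
  {B : Subgroup Γ}

open CfsgLib.CoprimeBase (scalar_unique) in
/-- An element fixing `v` and `λ² v`, for a generator `λ` of the multiplicative group, is linear. -/
theorem linear_of_square [Finite L] (hs : Pre Γ L W B) {g : Γ} {lam : L}
    (hgen : ∀ c : L, c ≠ 0 → ∃ n : ℕ, c = lam ^ n) (h2 : (2 : L) ≠ 0)
    (hlam : ∀ w : W, g • (lam ^ 2) • w = (lam ^ 2) • g • w) (c : L) (w : W) :
    g • c • w = c • g • w := by
  let S : Submonoid L :=
    { carrier := {c | ∀ w : W, g • c • w = c • g • w}
      one_mem' := fun w => by rw [one_smul, one_smul]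
      mul_mem' := fun {a b} ha hb w => by rw [mul_smul, ha, hb, ← mul_smul] }
  have hsq : ∀ a : L, a ^ 2 ∈ S := by
    intro a
    by_cases ha : a = 0
    · subst ha
      intro w
      rw [zero_pow two_ne_zero, zero_smul, smul_zero, zero_smul]
    obtain ⟨n, rfl⟩ := hgen a ha
    rw [← pow_mul, mul_comm, pow_mul]
    exact S.pow_mem hlam n
  have e : c = ((c + 1) / 2) ^ 2 - ((c - 1) / 2) ^ 2 := by field_simp; ring
  rw [e, sub_smul, smul_sub, hsq _ w, hsq _ w, ← sub_smul]

/-- A generator of the multiplicative group. -/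
theorem exists_gen (L : Type*) [Field L] [Finite L] :
    ∃ lam : L, lam ≠ 0 ∧ ∀ c : L, c ≠ 0 → ∃ n : ℕ, c = lam ^ n := by
  obtain ⟨u, hu⟩ := IsCyclic.exists_generator (α := Lˣ)
  refine ⟨u, u.ne_zero, fun c hc => ?_⟩
  obtain ⟨n, hn⟩ := (mem_powers_iff_mem_zpowers.2 (hu (Units.mk0 c hc)))
  exact ⟨n, by rw [← Units.val_pow_eq_pow_val]; exact congrArg Units.val hn.symm⟩

end CfsgLib.TripleBase
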