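import Cfsg.Agent.Lib.TripleBase.Defs

/-!
Lifting triples from the fixed space of a splitting element.
-/

set_option autoImplicit false
set_option linter.unusedSectionVars false

namespace CfsgLib.TripleBase

open CfsgLib.CoprimeBase (Pre Free Step scalar_unique Rich)
open CfsgLib.CoprimeBase.Step (proj)

universe u

variable {Γ L W : Type u} [Group Γ] [Field L] [AddCommGroup W] [Module L W] [DistribMulAction Γ W]
  {B : Subgroup Γ} {hs : Pre Γ L W B} {y b : Γ} {r : ℕ} {ζ d : L}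

/-- The data of a triple on the fixed space. -/
structure SubData (S : Step hs y b r ζ d) (v w t : W) : Prop where
  hv : v ∈ S.W0
  hw : w ∈ S.W0
  ht : t ∈ S.W0
  hv0 : v ≠ 0
  good : ∀ g ∈ S.N, g • v = v → g • w = w → g • t = t →
    (∀ (c : L), ∀ u ∈ S.W0, g • c • u = c • g • u) ∧
      ∀ x ∈ B, x ∈ S.N → ∀ u ∈ S.W0, g • x • u = x • g • u
  free : ∀ x ∈ B, x ∈ S.N → x • v = v → ∀ u ∈ S.W0, x • u = u

variable (S : Step hs y b r ζ d)
include S

theorem sub_data [Finite Γ] (h : @Trip ↥S.N _ L ↥S.W0 _ _ _ S.act S.B0) :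
    ∃ v w t : W, SubData S v w t ∧ v + w ≠ 0 := by
  obtain ⟨v, w, t, hgood, hv, hfree⟩ := h
  letI := S.act
  have hv' : (v : W) ≠ 0 := fun e => hv (Subtype.ext e)
  have hgood' : ∀ g ∈ S.N, g • (v : W) = v → g • (w : W) = w → g • (t : W) = t →
      (∀ (c : L), ∀ u ∈ S.W0, g • c • u = c • g • u) ∧
        ∀ x ∈ B, x ∈ S.N → ∀ u ∈ S.W0, g • x • u = x • g • u := by
    intro g hg h1 h2 h3
    obtain ⟨hl, hc⟩ := hgood ⟨g, hg⟩ (Subtype.ext h1) (Subtype.ext h2) (Subtype.ext h3)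
    exact ⟨fun c u hu => congrArg Subtype.val (hl c ⟨u, hu⟩),
      fun x hx hxN u hu => congrArg Subtype.val (hc ⟨x, hxN⟩ hx ⟨u, hu⟩)⟩
  have hfree' : ∀ x ∈ B, x ∈ S.N → x • (v : W) = v → ∀ u ∈ S.W0, x • u = u :=
    fun x hx hxN h1 u hu => congrArg Subtype.val (hfree ⟨x, hxN⟩ hx (Subtype.ext h1) ⟨u, hu⟩)
  by_cases he : (v : W) + w = 0
  · refine ⟨v, 0, t, ⟨v.2, zero_mem _, t.2, hv', fun g hg h1 _ h3 => hgood' g hg h1 ?_ h3, hfree'⟩,
      by rwa [add_zero]⟩
    rw [eq_neg_of_add_eq_zero_right he, smul_neg, h1]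
  · exact ⟨v, w, t, ⟨v.2, w.2, t.2, hv', hgood', hfree'⟩, he⟩

/-- An element fixing a free vector of the fixed space normalises the decomposition. -/
theorem norm_v [Finite Γ] {v : W} (hv : v ∈ S.W0) (hv0 : v ≠ 0)
    (hfree : ∀ x ∈ B, x ∈ S.N → x • v = v → ∀ u ∈ S.W0, x • u = u) {g : Γ} (hgv : g • v = v) :
    g ∈ S.N ∧ ∃ δ : L, δ ^ r = 1 ∧ δ ≠ 1 ∧ (∀ u, S.Eig ζ u → S.Eig δ (g • u)) ∧
      ∀ u, S.Eig (ζ ^ 2) u → S.Eig (δ ^ 2) (g • u) := by
  haveI := hs.nontrivial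
  haveI := Fact.mk S.prime
  have hinv : ∀ z ∈ B, z • v = v → ∃ j : ℕ, ∀ w : W, z • w = (y ^ j) • w := fun z hz hzv => by
    have hzN : z ∈ S.N := S.mem_N_of_comm (S.comm_of_fix hz hv hv0 (by rw [hzv]; exact hv))
    exact S.eq_pow_of_fix hz (hfree z hz hzN hzv)
  have hyv : y • v = v := hv
  obtain ⟨a, ha⟩ := hinv _ (hs.normal g y S.mem_y) (by
    rw [mul_smul, mul_smul, inv_smul_eq_iff.2 hgv.symm, hyv, hgv])
  have hgy : ∀ u : W, (y ^ a) • g • u = g • y • u := fun u => by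
    rw [← ha, mul_smul, mul_smul, inv_smul_smul]
  have hyr : ∀ (i : ℕ) (w : W), ((y ^ r) ^ i) • w = w := S.ypow_mul
  have hra : ¬ r ∣ a := by
    rintro ⟨a', rfl⟩
    refine S.not_scalar ⟨1, fun u => ?_⟩
    rw [one_smul]
    have h1 := hgy u
    rw [pow_mul, hyr] at h1
    exact (smul_left_cancel g h1).symm
  obtain ⟨a', -, ha'⟩ := Nat.exists_mul_mod_eq_one_of_coprime
    (Nat.coprime_comm.1 (S.prime.coprime_iff_not_dvd.2 hra) : Nat.Coprime a r) S.prime.one_lt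
  have hy_of : ∀ (w : W) (e : L), (y ^ a) • w = e • w → y • w = e ^ a' • w := by
    intro w e he
    have hpow : ∀ i : ℕ, ((y ^ a) ^ i) • w = e ^ i • w := by
      intro i
      induction i with
      | zero => simp
      | succ i ih =>
        rw [pow_succ (y ^ a), mul_smul, he, hs.lin _ (B.pow_mem (B.pow_mem S.mem_y a) i), ih,
          ← mul_smul, ← pow_succ']
    have h1 := hpow a'
    rw [← pow_mul, ← Nat.div_add_mod (a * a') r, ha', pow_succ, mul_smul, pow_mul, hyr] at h1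
    exact h1
  have hgN : g ∈ S.N := by
    intro u
    constructor
    · intro (hu : y • g • u = g • u)
      show y • u = u
      refine smul_left_cancel g ?_
      rw [← hgy]
      have hpow : ∀ i : ℕ, (y ^ i) • g • u = g • u := by
        intro i
        induction i with
        | zero => simp
        | succ i ih => rw [pow_succ, mul_smul, hu, ih]
      exact hpow a
    · intro (hu : y • u = u)
      show y • g • u = g • u
      have h1 := hy_of (g • u) 1 (by rw [one_smul, hgy, hu])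
      rwa [one_pow, one_smul] at h1
  obtain ⟨t, ht⟩ := hs.semi g ζ
  have key : ∀ (i : ℕ) (w : W), g • (ζ ^ i) • w = t ^ i • g • w := by
    intro i
    induction i with
    | zero => intro w; simp
    | succ i ih => intro w; rw [pow_succ', mul_smul, ht, ih, ← mul_smul t, ← pow_succ']
  have hgeig : ∀ (i : ℕ) (u : W), S.Eig (ζ ^ i) u → S.Eig ((t ^ i) ^ a') (g • u) := fun i u hu =>
    hy_of _ (t ^ i) (by rw [hgy, show y • u = ζ ^ i • u from hu, key])
  have htr : t ^ r = 1 := by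
    refine scalar_unique (W := W) fun w => ?_
    have h1 := key r (g⁻¹ • w)
    rw [S.root.pow_eq_one, one_smul, smul_inv_smul] at h1
    rw [one_smul]
    exact h1.symm
  have h1' : ∀ u, S.Eig ζ u → S.Eig (t ^ a') (g • u) := fun u hu => by
    simpa using hgeig 1 u (by simpa using hu)
  refine ⟨hgN, t ^ a', by rw [← pow_mul, mul_comm, pow_mul, htr, one_pow], ?_, h1', fun u hu => by
    rw [← pow_mul, mul_comm, pow_mul]; exact hgeig 2 u hu⟩
  intro e
  have hb1 : S.Eig ζ (b • v) := S.eig_b hv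
  have h2 := h1' _ hb1
  rw [e] at h2
  have h3 : b • v ∈ S.W0 := (hgN _).1 (S.eig_iff.1 h2)
  have h4 := (S.eig_iff.2 h3).symm.trans hb1
  have h5 : ((1 : L) - ζ) • b • v = 0 := by rw [sub_smul, h4, sub_self]
  rcases smul_eq_zero.1 h5 with e' | e'
  · exact S.root.ne_one S.prime.one_lt (sub_eq_zero.1 e').symm
  · exact hv0 ((smul_eq_zero_iff_eq b).1 e')

/-- The end of both lifting arguments. -/
theorem central_of_lift [Finite Γ] {v : W} (hv : v ∈ S.W0) (hv0 : v ≠ 0)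
    (hfree : ∀ x ∈ B, x ∈ S.N → x • v = v → ∀ u ∈ S.W0, x • u = u) {g : Γ}
    (hgN : g ∈ S.N) (hgv : g • v = v) (hlin : ∀ (c : L) (w : W), g • c • w = c • g • w)
    (hcom : ∀ x ∈ B, x ∈ S.N → ∀ u ∈ S.W0, g • x • u = x • g • u)
    (hgb : g • b • v = b • v) (hgbb : g • b • b • v = b • b • v) : Central L W B g := by
  haveI := hs.nontrivial
  haveI : NeZero r := ⟨S.prime.ne_zero⟩
  have hbv : b • v ≠ 0 := fun e => hv0 ((smul_eq_zero_iff_eq b).1 e)
  have hfix : ∀ z ∈ B, z • v = v → ∃ j : ℕ, ∀ w : W, z • w = (y ^ j) • w := fun z hz hzv =>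
    S.eq_pow_of_fix hz (hfree z hz (S.mem_N_of_comm (S.comm_of_fix hz hv hv0 (by rw [hzv]; exact hv))) hzv)
  have hpz : ∀ j : ℕ, ζ ^ j = 1 → ∀ w : W, (y ^ j) • w = w := by
    intro j hj w
    obtain ⟨i, rfl⟩ := (S.root.pow_eq_one_iff_dvd j).1 hj
    rw [pow_mul]
    exact S.ypow_mul i w
  -- `g` commutes with `y`
  obtain ⟨a, ha⟩ := hfix _ (hs.normal g y S.mem_y) (by
    rw [mul_smul, mul_smul, inv_smul_eq_iff.2 hgv.symm, show y • v = v from hv, hgv])
  have hgy : ∀ u : W, g • y • u = (y ^ a) • g • u := fun u => by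
    rw [← ha, mul_smul, mul_smul, inv_smul_smul]
  have hb1 : S.Eig ζ (b • v) := S.eig_b hv
  have hza : ζ ^ a = ζ := by
    have h1 := hgy (b • v)
    rw [show y • b • v = ζ • b • v from hb1, hlin, hgb, S.eig_pow hb1] at h1
    have h2 : (ζ ^ a - ζ) • b • v = 0 := by rw [sub_smul, ← h1, sub_self]
    exact sub_eq_zero.1 ((smul_eq_zero.1 h2).resolve_right hbv)
  have hya : ∀ w : W, (y ^ a) • w = y • w := by
    intro w
    have h1 : a % r = 1 := by
      refine S.root.pow_inj (Nat.mod_lt _ S.prime.pos) S.prime.one_lt ?_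
      rw [pow_one, S.root.eq_orderOf, pow_mod_orderOf]
      exact hza
    rw [← Nat.div_add_mod a r, h1, pow_succ, mul_smul, pow_mul]
    exact S.ypow_mul _ _
  have hgy' : ∀ u : W, g • y • u = y • g • u := fun u => by rw [hgy, hya]
  -- `g` commutes with `b`
  have hzB : b⁻¹ * (g * b * g⁻¹) ∈ B := B.mul_mem (B.inv_mem S.mem_b) (hs.normal g b S.mem_b)
  obtain ⟨j, hj⟩ := hfix _ hzB (by
    rw [mul_smul, mul_smul, mul_smul, inv_smul_eq_iff.2 hgv.symm, hgb, inv_smul_smul])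
  have hgbj : ∀ u : W, g • b • u = b • (y ^ j) • g • u := fun u => by
    rw [← hj, mul_smul, mul_smul, mul_smul, inv_smul_smul, smul_inv_smul]
  have hζj : ζ ^ j = 1 := by
    have h1 := hgbj (b • v)
    rw [hgbb, hgb, S.eig_pow hb1, hs.lin b S.mem_b] at h1
    have h2 : (ζ ^ j - 1) • b • b • v = 0 := by rw [sub_smul, one_smul, ← h1, sub_self]
    exact sub_eq_zero.1 ((smul_eq_zero.1 h2).resolve_right fun e => hbv ((smul_eq_zero_iff_eq b).1 e))
  have hgb' : ∀ u : W, g • b • u = b • g • u := fun u => by rw [hgbj, hpz j hζj]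
  -- `g` commutes with the rest
  have hgx : ∀ x ∈ B, x ∈ S.N → ∀ u : W, g • x • u = x • g • u := by
    intro x hx hxN
    have hxB : x⁻¹ * (g * x * g⁻¹) ∈ B := B.mul_mem (B.inv_mem hx) (hs.normal g x hx)
    have hgi : g⁻¹ ∈ S.N := S.N.inv_mem hgN
    obtain ⟨i, hi⟩ := S.eq_pow_of_fix hxB fun u hu => by
      have hu' : g⁻¹ • u ∈ S.W0 := (hgi u).2 hu
      rw [mul_smul, mul_smul, mul_smul, hcom x hx hxN _ hu', smul_inv_smul, inv_smul_smul]
    have hgxi : ∀ u : W, g • x • u = x • (y ^ i) • g • u := fun u => by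
      rw [← hi, mul_smul, mul_smul, mul_smul, inv_smul_smul, smul_inv_smul]
    obtain ⟨p, hp⟩ := S.exists_phase hx
    have hgxv : g • x • v = x • v := by rw [hcom x hx hxN v hv, hgv]
    have hne : x • b • v ≠ 0 := fun e => hbv ((smul_eq_zero_iff_eq x).1 e)
    have hζi : ζ ^ i = 1 := by
      have h1 := hgxi (b • v)
      rw [hgb, S.eig_pow hb1, hs.lin x hx] at h1
      have h2 : g • x • b • v = x • b • v := by
        rw [hp, hlin, hgb', hgxv]
      rw [h2] at h1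
      have h3 : (ζ ^ i - 1) • x • b • v = 0 := by rw [sub_smul, one_smul, ← h1, sub_self]
      exact sub_eq_zero.1 ((smul_eq_zero.1 h3).resolve_right hne)
    exact fun u => by rw [hgxi, hpz i hζi]
  refine ⟨hlin, fun z hz w => ?_⟩
  obtain ⟨a', -, z', hz', hzN, rfl⟩ : ∃ a, a < r ∧ ∃ z' ∈ B, z' ∈ S.N ∧ z = b ^ a * z' := by
    obtain ⟨c, hc⟩ := hs.comm y S.mem_y z hz
    have hpow : ∀ (i : ℕ) (w : W), (y ^ i) • z • w = c ^ i • z • (y ^ i) • w := by
      intro i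
      induction i with
      | zero => intro w; simp
      | succ i ih =>
        intro w
        rw [pow_succ' y i, mul_smul, ih, hs.lin y S.mem_y, hc, ← mul_smul (c ^ i) c, ← pow_succ,
          ← mul_smul y (y ^ i) w]
    have hcr : c ^ r = 1 := by
      refine (scalar_unique (W := W) fun w => ?_).symm
      have h1 := hpow r (z⁻¹ • w)
      rw [smul_inv_smul, S.pow_y, S.pow_y, smul_inv_smul] at h1
      rw [one_smul]
      exact h1
    obtain ⟨i, hir, hi⟩ := S.root.eq_pow_of_pow_eq_one hcr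
    refine ⟨i, hir, (b ^ i)⁻¹ * z, B.mul_mem (B.inv_mem (B.pow_mem S.mem_b i)) hz,
      S.mem_N_of_comm fun v => ?_, by rw [mul_inv_cancel_left]⟩
    have h1 := S.pow_comm i (((b ^ i)⁻¹ * z) • v)
    rw [mul_smul, smul_inv_smul, hc, ← hi] at h1
    have h2 := ((IsUnit.mk0 _ (pow_ne_zero i (S.root.ne_zero S.prime.ne_zero))).smul_left_cancel).1 h1
    rw [mul_smul, mul_smul]
    exact (eq_inv_smul_iff.2 h2.symm)
  have hgbpow : ∀ (i : ℕ) (w : W), g • (b ^ i) • w = (b ^ i) • g • w := by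
    intro i
    induction i with
    | zero => intro w; simp
    | succ i ih => intro w; rw [pow_succ' b i, mul_smul, hgb', ih, ← mul_smul b]
  rw [mul_smul, hgbpow, hgx z' hz' hzN, ← mul_smul (b ^ a')]

/-- Freeness of a vector with two components. -/
theorem free_of_two [Finite Γ] {v₀ u' : W} (hv : v₀ ∈ S.W0) (hu' : u' ∈ S.W0) (hv0 : v₀ ≠ 0)
    (hu'0 : u' ≠ 0) (hfree' : ∀ x ∈ B, x ∈ S.N → x • u' = u' → ∀ u ∈ S.W0, x • u = u)
    (hswap : r = 2 → ∀ k ∈ B, ¬ (k • v₀ = b • u' ∧ k • b • u' = v₀)) :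
    Free B (v₀ + b • u') := by
  haveI := hs.nontrivial
  haveI : NeZero r := ⟨S.prime.ne_zero⟩
  have h1r : (1 : L) ^ r = 1 := one_pow r
  have hζr : ζ ^ r = 1 := S.root.pow_eq_one
  have hζ1 : ζ ≠ 1 := S.root.ne_one S.prime.one_lt
  have hb1 : S.Eig ζ (b • u') := S.eig_b hu'
  have hbu0 : b • u' ≠ 0 := fun e => hu'0 ((smul_eq_zero_iff_eq b).1 e)
  intro k hk hku
  obtain ⟨c, hc⟩ := hs.comm y S.mem_y k hk
  have hkeig : ∀ (ε : L) (w : W), S.Eig ε w → S.Eig (c * ε) (k • w) := fun ε w hw => by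
    show y • k • w = _
    rw [hc, show y • w = ε • w from hw, hs.lin k hk, ← mul_smul]
  have hk0 : S.Eig c (k • v₀) := by simpa using hkeig 1 v₀ (S.eig_iff.2 hv)
  have hk1 : S.Eig (c * ζ) (k • b • u') := hkeig _ _ hb1
  have hcr : c ^ r = 1 := by
    have h1 := S.eig_pow hk0 r
    rw [S.pow_y] at h1
    have h' : (c ^ r - 1) • k • v₀ = 0 := by rw [sub_smul, one_smul, ← h1, sub_self]
    exact sub_eq_zero.1 ((smul_eq_zero.1 h').resolve_right fun e => hv0 ((smul_eq_zero_iff_eq k).1 e))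
  have hcζr : (c * ζ) ^ r = 1 := by rw [mul_pow, hcr, hζr, one_mul]
  have hc0 : c ≠ 0 := fun e => by rw [e, zero_pow S.prime.ne_zero] at hcr; exact zero_ne_one hcr
  let P : L → W →+ W := fun ε => proj (y := y) (r := r) ε
  have hcomp : ∀ ε : L, P ε (k • v₀) + P ε (k • b • u') = P ε v₀ + P ε (b • u') := by
    intro ε
    have h1 := congrArg (P ε) hku
    rwa [smul_add, map_add, map_add] at h1
  have hne : c * ζ ≠ c := fun e => hζ1 (mul_left_cancel₀ hc0 (e.trans (mul_one c).symm))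
  by_cases hc1 : c = 1
  · subst hc1
    rw [one_mul] at hk1
    have e0 : k • v₀ = v₀ := by
      have h1 := hcomp 1
      simpa [P, S.proj_of_eig h1r hk0, S.proj_of_eig_ne h1r hζr hk1 hζ1,
        S.proj_of_eig h1r (S.eig_iff.2 hv), S.proj_of_eig_ne h1r hζr hb1 hζ1] using h1
    have e1 : k • b • u' = b • u' := by
      have h1 := hcomp ζ
      simpa [P, S.proj_of_eig_ne hζr h1r hk0 hζ1.symm, S.proj_of_eig hζr hk1,
        S.proj_of_eig_ne hζr h1r (S.eig_iff.2 hv) hζ1.symm, S.proj_of_eig hζr hb1] using h1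
    have hk' : b⁻¹ * k * b ∈ B := B.mul_mem (B.mul_mem (B.inv_mem S.mem_b) hk) S.mem_b
    have hk'u : (b⁻¹ * k * b) • u' = u' := by rw [mul_smul, mul_smul, e1, inv_smul_smul]
    obtain ⟨j, hj⟩ := S.eq_pow_of_fix hk' (hfree' _ hk'
      (S.mem_N_of_comm (S.comm_of_fix hk' hu' hu'0 (by rw [hk'u]; exact hu'))) hk'u)
    have hkw : ∀ w : W, k • b • w = b • (y ^ j) • w := fun w => by
      rw [← hj, mul_smul, mul_smul, smul_inv_smul]
    have hj1 : ζ ^ j = 1 := by
      have h1 : ζ ^ j • k • v₀ = v₀ := by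
        obtain ⟨u, hu⟩ : ∃ u, b • u = v₀ := ⟨b⁻¹ • v₀, smul_inv_smul _ _⟩
        rw [← hu, hkw, ← hs.lin b S.mem_b, hs.lin b S.mem_b, ← S.y_phase, hu, S.y_pow_fix hv]
      rw [e0] at h1
      have : (ζ ^ j - 1) • v₀ = 0 := by rw [sub_smul, one_smul, h1, sub_self]
      exact sub_eq_zero.1 ((smul_eq_zero.1 this).resolve_right hv0)
    intro w
    obtain ⟨u, rfl⟩ : ∃ u, b • u = w := ⟨b⁻¹ • w, smul_inv_smul _ _⟩
    obtain ⟨i, rfl⟩ := (S.root.pow_eq_one_iff_dvd j).1 hj1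
    rw [hkw, pow_mul, S.ypow_mul]
  exfalso
  have hcζ : c = ζ := by
    by_contra hne'
    refine hv0 ((smul_eq_zero_iff_eq k).1 ?_)
    have h1 := hcomp c
    simpa [P, S.proj_of_eig hcr hk0, S.proj_of_eig_ne hcr hcζr hk1 hne,
      S.proj_of_eig_ne hcr h1r (S.eig_iff.2 hv) (Ne.symm hc1),
      S.proj_of_eig_ne hcr hζr hb1 (Ne.symm hne')] using h1
  subst hcζ
  have hk0' : k • v₀ = b • u' := by
    have h1 := hcomp c
    simpa [P, S.proj_of_eig hcr hk0, S.proj_of_eig_ne hcr hcζr hk1 hne,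
      S.proj_of_eig_ne hcr h1r (S.eig_iff.2 hv) (Ne.symm hc1), S.proj_of_eig hcr hb1] using h1
  have hsq : c * c = 1 := by
    by_contra hne'
    refine hbu0 ((smul_eq_zero_iff_eq k).1 ?_)
    have h1 := hcomp (c * c)
    simpa [P, S.proj_of_eig_ne hcζr hcr hk0 hne.symm, S.proj_of_eig hcζr hk1,
      S.proj_of_eig_ne hcζr h1r (S.eig_iff.2 hv) (Ne.symm hne'),
      S.proj_of_eig_ne hcζr hζr hb1 hne.symm] using h1
  have hr2 : r = 2 := (Nat.prime_dvd_prime_iff_eq S.prime Nat.prime_two).1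
    ((S.root.pow_eq_one_iff_dvd 2).1 (by rw [pow_two, hsq]))
  refine hswap hr2 k hk ⟨hk0', ?_⟩
  have h1 := hcomp (c * c)
  rw [hsq] at h1 hk1
  simpa [P, S.proj_of_eig_ne h1r hcr hk0 hc1, S.proj_of_eig h1r hk1,
    S.proj_of_eig h1r (S.eig_iff.2 hv), S.proj_of_eig_ne h1r hζr hb1 hζ1] using h1

end CfsgLib.TripleBase
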