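import Cfsg.Agent.Lib.TripleBase.Quasi

/-!
A solvable completely reducible group has a base of size three.
-/

set_option autoImplicit false
set_option linter.unusedSectionVars false

namespace CfsgLib.TripleBase

open CfsgLib.OddBase (Irred CR Inv actOn ρ alg ρ_mem_alg alg_comm conj_mem_alg)

universe u v

theorem base3_of_units {V : Type u} [AddCommGroup V] [Finite V]
    (hyp : Hyp3.{u} (Nat.card V)) (G : Subgroup (AddMonoid.End V)ˣ) (ha : Setup3 ↥G V)
    (hirr : Irred ↥G V) : Base3 ↥G V := by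
  classical
  haveI : Finite (AddMonoid.End V) :=
    Finite.of_injective (fun r : AddMonoid.End V => (r : V → V)) DFunLike.coe_injective
  induction hn : (Nat.card (AddMonoid.End V)ˣ - Nat.card ↥G) using Nat.strong_induction_on
    generalizing G with
  | _ n ih =>
  subst hn
  haveI := ha.solvable
  haveI := ha.nontrivial
  haveI hfa : FaithfulSMul ↥G V :=
    ⟨fun {g h} e => Subtype.ext (Units.ext (AddMonoidHom.ext e))⟩
  by_contra hno
  refine hno (quasi3 hfa ha fun X hXc hXn r hr hr0 => ?_)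
  have hinj := (base3_or_field ha hirr hyp X hXc hXn).resolve_left hno
  refine ⟨hinj r hr hr0, ?_⟩
  let R := alg V X
  let U : Subgroup (AddMonoid.End V)ˣ :=
    { carrier := {u | (u : AddMonoid.End V) ∈ R}
      one_mem' := R.one_mem
      mul_mem' := fun {a b} ha hb => R.mul_mem ha hb
      inv_mem' := fun {a} ha => by
        obtain ⟨i, hi⟩ : ∃ i : ℕ, a ^ i = a⁻¹ := ⟨orderOf a - 1, by
          refine eq_inv_of_mul_eq_one_left ?_
          rw [← pow_succ, Nat.sub_add_cancel (orderOf_pos a), pow_orderOf_eq_one]⟩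
        show ((a⁻¹ : (AddMonoid.End V)ˣ) : AddMonoid.End V) ∈ R
        rw [← hi, Units.val_pow_eq_pow_val]
        exact R.pow_mem ha i }
  have hρ : ∀ g : ↥G, ρ ↥G V g = ((g : (AddMonoid.End V)ˣ) : AddMonoid.End V) := fun g => rfl
  have hnorm : ∀ g ∈ G, ∀ u ∈ U, g * u * g⁻¹ ∈ U := fun g hg u hu =>
    conj_mem_alg hXn (⟨g, hg⟩ : ↥G) hu
  have hUn : G ≤ Subgroup.normalizer (U : Set (AddMonoid.End V)ˣ) := by
    intro g hg
    rw [Subgroup.mem_normalizer_iff]
    refine fun u => ⟨hnorm g hg u, fun hu => ?_⟩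
    have := hnorm g⁻¹ (G.inv_mem hg) _ hu
    rwa [show g⁻¹ * (g * u * g⁻¹) * g⁻¹⁻¹ = u by group] at this
  have hUc : ∀ a ∈ U, ∀ b ∈ U, a * b = b * a := fun a ha' b hb => Units.ext (alg_comm hXc ha' hb)
  -- the enlarged group
  let G' : Subgroup (AddMonoid.End V)ˣ := G ⊔ U
  have hle : G ≤ G' := le_sup_left
  haveI hU' : (U.subgroupOf G').Normal :=
    (Subgroup.normal_subgroupOf_iff_le_normalizer le_sup_right).2 (sup_le hUn Subgroup.le_normalizer)
  let ψ : ↥G →* ↥G' ⧸ U.subgroupOf G' :=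
    (QuotientGroup.mk' (U.subgroupOf G')).comp (Subgroup.inclusion hle)
  have hψ : Function.Surjective ψ := by
    intro q
    obtain ⟨⟨y, hy⟩, rfl⟩ := QuotientGroup.mk_surjective q
    obtain ⟨g, hg, u, hu, hgu⟩ : ∃ g ∈ G, ∃ u ∈ U, g * u = y := by
      have h : (y : (AddMonoid.End V)ˣ) ∈ ((G ⊔ U : Subgroup (AddMonoid.End V)ˣ) : Set (AddMonoid.End V)ˣ) := hy
      rw [Subgroup.coe_mul_of_left_le_normalizer_right G U hUn] at h
      exact h
    subst hgu
    refine ⟨⟨g, hg⟩, ?_⟩
    show ((Subgroup.inclusion hle ⟨g, hg⟩ : ↥G') : ↥G' ⧸ U.subgroupOf G') = _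
    rw [QuotientGroup.eq, Subgroup.mem_subgroupOf]
    simpa [mul_assoc] using hu
  haveI hquot : Group.IsSolvable (↥G' ⧸ U.subgroupOf G') :=
    Group.isSolvable_of_surjective hψ
  haveI : Group.IsSolvable ↥(U.subgroupOf G') :=
    Group.isSolvable_of_comm fun a b => Subtype.ext (Subtype.ext (hUc _ a.2 _ b.2))
  have hG'sol : Group.IsSolvable ↥G' :=
    (Group.isSolvable_iff_subgroup_quotient (U.subgroupOf G')).2 ⟨inferInstance, hquot⟩
  have ha' : Setup3 ↥G' V := ⟨hG'sol, inferInstance, ha.char⟩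
  by_cases hGG : G' = G
  · have hru : IsUnit r := by
      have hb : Function.Bijective r := ⟨hinj r hr hr0, Finite.surjective_of_injective (hinj r hr hr0)⟩
      let e := AddEquiv.ofBijective (r : V →+ V) hb
      exact ⟨⟨r, (e.symm.toAddMonoidHom : AddMonoid.End V),
        AddMonoidHom.ext fun v => e.apply_symm_apply v,
        AddMonoidHom.ext fun v => e.symm_apply_apply v⟩, rfl⟩
    obtain ⟨u, rfl⟩ := hru
    exact ⟨⟨u, hGG ▸ (le_sup_right (a := G) (b := U) : U ≤ G') (show u ∈ U from hr)⟩, rfl⟩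
  · exfalso
    have hlt : Nat.card ↥G < Nat.card ↥G' := lt_of_le_of_ne
      (Nat.card_le_card_of_injective _ (Subgroup.inclusion_injective hle))
      fun e => hGG (Subgroup.eq_of_le_of_card_ge hle e.ge).symm
    have hG'le : Nat.card ↥G' ≤ Nat.card (AddMonoid.End V)ˣ :=
      Nat.card_le_card_of_injective _ Subtype.val_injective
    obtain ⟨q, hq'⟩ := ih _ (by omega) G' ha'
      (fun W hW => hirr W fun g x hx => hW ⟨g, hle g.2⟩ x hx) rfl
    exact hno ⟨q, fun g h1 h2 h3 => hq' ⟨g, hle g.2⟩ h1 h2 h3⟩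

theorem base3_step {A V : Type u} [Group A] [Finite A] [AddCommGroup V] [Finite V]
    [DistribMulAction A V] (hsol : Group.IsSolvable A) (hcr : CR A V)
    (hyp : Hyp3.{u} (Nat.card V)) : Base3 A V := by
  classical
  rcases subsingleton_or_nontrivial V with hV | hV
  · exact ⟨(0, 0, 0), fun a _ _ _ x => Subsingleton.elim _ _⟩
  by_cases hirr : Irred A V
  · haveI := hsol
    obtain ⟨p, hp, hpd⟩ := Nat.exists_prime_and_dvd
      (show Nat.card V ≠ 1 from (Finite.one_lt_card_iff_nontrivial.2 hV).ne')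
    haveI := Fact.mk hp
    let f : V →+ V := p • AddMonoidHom.id V
    have hf : Inv A V f.ker := fun a x hx => by
      simp only [f, AddMonoidHom.mem_ker] at hx ⊢
      show p • (a • x) = 0
      rw [← smul_comm, show p • x = 0 from hx, smul_zero]
    have hpV : ∀ v : V, p • v = 0 := by
      rcases hirr f.ker hf with e | e
      · obtain ⟨v, hv⟩ := exists_prime_addOrderOf_dvd_card' (G := V) p hpd
        have h1 : v ∈ f.ker := show p • v = 0 from hv ▸ addOrderOf_nsmul_eq_zero v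
        rw [e, AddSubgroup.mem_bot] at h1
        rw [h1, addOrderOf_zero] at hv
        exact absurd hv hp.one_lt.ne
      · intro v
        exact (e ▸ AddSubgroup.mem_top v : v ∈ f.ker)
    let φ : A →* (AddMonoid.End V)ˣ := (DistribMulAction.toAddMonoidEnd A V).toHomUnits
    haveI : Finite (AddMonoid.End V) :=
      Finite.of_injective (fun r : AddMonoid.End V => (r : V → V)) DFunLike.coe_injective
    have hsmul : ∀ (a : A) (v : V), φ.rangeRestrict a • v = a • v := fun a v => rfl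
    have ha : Setup3 ↥φ.range V :=
      ⟨Group.isSolvable_of_surjective φ.rangeRestrict_surjective, hV, p, hp, hpV⟩
    obtain ⟨q, hq'⟩ := base3_of_units hyp φ.range ha fun U' hU' => hirr U' fun a x hx => by
      rw [← hsmul]; exact hU' _ x hx
    exact ⟨q, fun a h1 h2 h3 x => hq' (φ.rangeRestrict a) h1 h2 h3 x⟩
  · unfold Irred at hirr
    push Not at hirr
    obtain ⟨U, hU, hU0, hU1⟩ := hirr
    obtain ⟨W, hW, hdis, hsup⟩ := hcr U hU
    have hlt : ∀ T : AddSubgroup V, T ≠ ⊤ → Nat.card ↥T < Nat.card V := fun T hT =>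
      lt_of_le_of_ne (Nat.card_le_card_of_injective _ Subtype.val_injective) fun e =>
        hT (T.eq_top_of_card_eq e)
    have hW1 : W ≠ ⊤ := fun e => hU0 (by rw [← hdis, e, inf_top_eq])
    obtain ⟨⟨u1, u2, u3⟩, hu⟩ := @hyp A ↥U _ _ _ _ (actOn U hU) (hlt U hU1) hsol (hcr.res U hU)
    obtain ⟨⟨w1, w2, w3⟩, hw⟩ := @hyp A ↥W _ _ _ _ (actOn W hW) (hlt W hW1) hsol (hcr.res W hW)
    refine ⟨((u1 : V) + w1, (u2 : V) + w2, (u3 : V) + w3), fun a h1 h2 h3 => ?_⟩
    have key : ∀ (u : ↥U) (w : ↥W), a • ((u : V) + w) = (u : V) + w →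
        a • (u : V) = u ∧ a • (w : V) = w := by
      intro u w h
      rw [smul_add] at h
      have e : a • (u : V) - u = w - a • (w : V) := by
        rw [sub_eq_sub_iff_add_eq_add, add_comm (w : V)]
        exact h
      have hmem : a • (u : V) - u ∈ U ⊓ W :=
        ⟨U.sub_mem (hU a u u.2) u.2, e ▸ W.sub_mem w.2 (hW a w w.2)⟩
      rw [hdis, AddSubgroup.mem_bot] at hmem
      rw [hmem, eq_comm, sub_eq_zero] at e
      exact ⟨sub_eq_zero.1 hmem, e.symm⟩
    obtain ⟨a1, b1⟩ := key u1 w1 h1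
    obtain ⟨a2, b2⟩ := key u2 w2 h2
    obtain ⟨a3, b3⟩ := key u3 w3 h3
    intro x
    have hx : x ∈ U ⊔ W := by rw [hsup]; trivial
    obtain ⟨y, hy, z, hz, rfl⟩ := AddSubgroup.mem_sup.1 hx
    have e1 : a • y = y :=
      congrArg Subtype.val (hu a (Subtype.ext a1) (Subtype.ext a2) (Subtype.ext a3) ⟨y, hy⟩)
    have e2 : a • z = z :=
      congrArg Subtype.val (hw a (Subtype.ext b1) (Subtype.ext b2) (Subtype.ext b3) ⟨z, hz⟩)
    rw [smul_add, e1, e2]

theorem hyp3_all (n : ℕ) : Hyp3.{u} n := by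
  induction n using Nat.strong_induction_on with
  | _ n ih =>
    intro A V _ _ _ _ _ hV hsol hcr
    exact base3_step hsol hcr (ih _ hV)

/-- Three vectors with trivial common stabiliser, in any universes. -/
theorem three_vectors {A : Type u} {V : Type v} [Group A] [Finite A] [AddCommGroup V] [Finite V]
    [DistribMulAction A V] [FaithfulSMul A V] (hA : Group.IsSolvable A) (hcr : CR A V) :
    ∃ x y z : V, ∀ a : A, a • x = x → a • y = y → a • z = z → a = 1 := by
  haveI := hA
  let φ : A →* (AddMonoid.End V)ˣ := (DistribMulAction.toAddMonoidEnd A V).toHomUnits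
  haveI : Finite (AddMonoid.End V) :=
    Finite.of_injective (fun r : AddMonoid.End V => (r : V → V)) DFunLike.coe_injective
  have hsmul : ∀ (a : A) (v : V), φ.rangeRestrict a • v = a • v := fun a v => rfl
  have hcrG : CR φ.range V := fun U hU => by
    obtain ⟨W, hW, h1, h2⟩ := hcr U fun a x hx => hsmul a x ▸ hU _ x hx
    refine ⟨W, fun g x hx => ?_, h1, h2⟩
    obtain ⟨a, rfl⟩ := φ.rangeRestrict_surjective g
    rw [hsmul]
    exact hW a x hx
  obtain ⟨⟨x, y, z⟩, h⟩ := hyp3_all (Nat.card V + 1) φ.range V (Nat.lt_succ_self _)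
    (Group.isSolvable_of_surjective φ.rangeRestrict_surjective) hcrG
  refine ⟨x, y, z, fun a h1 h2 h3 => FaithfulSMul.eq_of_smul_eq_smul (α := V) fun w => ?_⟩
  rw [one_smul]
  exact h (φ.rangeRestrict a) h1 h2 h3 w

end CfsgLib.TripleBase
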