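import Cfsg.Agent.Lib.TripleBase.Defs
import Cfsg.Agent.Lib.InvolChar.A8Normalizer

/-!
One base of size three gives five inequivalent ones.
-/

set_option autoImplicit false
set_option linter.unusedSectionVars false

namespace CfsgLib.TripleBase

universe u

variable (p : ℕ) [Fact p.Prime]

/-- Invertible additive maps of the space of triples. -/
abbrev Mat3 : Type := (AddMonoid.End (Fin 3 → ZMod p))ˣ

variable {p}

/-- The map adding a multiple of the `j`-th coordinate to the `i`-th. -/
def shear (i j : Fin 3) (c : ZMod p) : AddMonoid.End (Fin 3 → ZMod p) :=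
  AddMonoidHom.mk' (fun x => x + Pi.single i (c * x j)) fun x y => by
    rw [Pi.add_apply, mul_add, Pi.single_add]; abel

theorem shear_apply (i j : Fin 3) (c : ZMod p) (x : Fin 3 → ZMod p) :
    shear i j c x = x + Pi.single i (c * x j) := rfl

theorem shear_mul (i j : Fin 3) (hij : i ≠ j) (c d : ZMod p) :
    shear i j c * shear i j d = shear i j (c + d) := by
  refine AddMonoidHom.ext fun x => ?_
  show shear i j c (shear i j d x) = shear i j (c + d) x
  rw [shear_apply, shear_apply, shear_apply, Pi.add_apply, Pi.single_eq_of_ne (Ne.symm hij),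
    add_zero, add_mul, Pi.single_add]
  abel

theorem shear_zero (i j : Fin 3) : shear (p := p) i j 0 = 1 := by
  refine AddMonoidHom.ext fun x => ?_
  show shear i j 0 x = x
  simp [shear_apply]

/-- The shear as a unit. -/
def trv (i j : Fin 3) (hij : i ≠ j) (c : ZMod p) : Mat3 p :=
  ⟨shear i j c, shear i j (-c), by rw [shear_mul i j hij, add_neg_cancel, shear_zero],
    by rw [shear_mul i j hij, neg_add_cancel, shear_zero]⟩

theorem trv_comm {i j k : Fin 3} (hij : i ≠ j) (hik : i ≠ k) (hkj : k ≠ j) (c : ZMod p) :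
    trv i j hij c =
      trv i k hik c * trv k j hkj 1 * (trv i k hik c)⁻¹ * (trv k j hkj 1)⁻¹ := by
  refine Units.ext (AddMonoidHom.ext fun x => ?_)
  show shear i j c x = shear i k c (shear k j 1 (shear i k (-c) (shear k j (-1) x)))
  funext l
  simp only [shear_apply, Pi.add_apply, Pi.single_eq_same, Pi.single_eq_of_ne hij.symm,
    Pi.single_eq_of_ne hkj.symm, Pi.single_eq_of_ne hik.symm, Pi.single_eq_of_ne hik,
    add_zero, one_mul]
  by_cases hli : l = i
  · subst hli
    simp only [Pi.single_eq_same, Pi.single_eq_of_ne hik]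
    ring
  by_cases hlk : l = k
  · subst hlk
    simp only [Pi.single_eq_same, Pi.single_eq_of_ne hli]
    ring
  simp only [Pi.single_eq_of_ne hli, Pi.single_eq_of_ne hlk, add_zero]

theorem exists_third : ∀ i j : Fin 3, i ≠ j → ∃ k, i ≠ k ∧ k ≠ j := by decide

theorem trv_mem_derived (n : ℕ) : ∀ (i j : Fin 3) (hij : i ≠ j) (c : ZMod p),
    trv i j hij c ∈ derivedSeries (Mat3 p) n := by
  induction n with
  | zero => intro i j hij c; rw [derivedSeries_zero]; exact Subgroup.mem_top _
  | succ n ih =>
    intro i j hij c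
    obtain ⟨k, hik, hkj⟩ := exists_third i j hij
    rw [derivedSeries_succ, trv_comm hij hik hkj c]
    exact Subgroup.commutator_mem_commutator (ih _ _ hik _) (ih _ _ hkj _)

/-- A subgroup of index at most four contains every shear. -/
theorem trv_mem_of_index (H : Subgroup (Mat3 p)) (h : H.index ≤ 4) (i j : Fin 3) (hij : i ≠ j)
    (c : ZMod p) : trv i j hij c ∈ H := by
  haveI : Finite (AddMonoid.End (Fin 3 → ZMod p)) :=
    Finite.of_injective (fun f : AddMonoid.End (Fin 3 → ZMod p) => (f : (Fin 3 → ZMod p) → Fin 3 → ZMod p))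
      DFunLike.coe_injective
  haveI hsol : Group.IsSolvable (Equiv.Perm (Mat3 p ⧸ H)) := by
    refine CfsgLib.InvolChar.A8Normalizer.isSolvable_of_card_lt_sixty ?_
    rw [Nat.card_perm, ← Subgroup.index_eq_card]
    exact lt_of_le_of_lt (Nat.factorial_le h) (by decide)
  obtain ⟨n, hn⟩ := (Group.isSolvable_def _).1 hsol
  have h1 := Subgroup.mem_map_of_mem (MulAction.toPermHom (Mat3 p) (Mat3 p ⧸ H))
    (trv_mem_derived n i j hij c)
  have h2 := map_derivedSeries_le_derivedSeries (MulAction.toPermHom (Mat3 p) (Mat3 p ⧸ H)) n h1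
  rw [hn, Subgroup.mem_bot] at h2
  have h3 : trv i j hij c • ((1 : Mat3 p) : Mat3 p ⧸ H) = ((1 : Mat3 p) : Mat3 p ⧸ H) :=
    (Equiv.Perm.ext_iff.1 h2 ((1 : Mat3 p) : Mat3 p ⧸ H) :)
  rw [MulAction.Quotient.smul_coe, smul_eq_mul, mul_one, QuotientGroup.eq, mul_one] at h3
  exact inv_mem_iff.1 h3

variable {A V : Type*} [Group A] [AddCommGroup V] [DistribMulAction A V]

/-- Five inequivalent triples with the stabiliser of a given one. -/
theorem five_triples [Finite A] [Nontrivial V] (hA : Group.IsSolvable A) (hp : ∀ v : V, p • v = 0)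
    {q₀ : V × V × V} (hq₀ : Good3 A V q₀) :
    ∃ c : Fin 5 → V × V × V, (∀ i, Good3 A V (c i)) ∧
      ∀ (a : A) (i j : Fin 5), a • c i = c j → i = j := by
  classical
  haveI : Module (ZMod p) V := AddCommGroup.zmodModule hp
  haveI hfin : Finite (AddMonoid.End (Fin 3 → ZMod p)) :=
    Finite.of_injective (fun f : AddMonoid.End (Fin 3 → ZMod p) => (f : (Fin 3 → ZMod p) → Fin 3 → ZMod p))
      DFunLike.coe_injective
  haveI := hA
  obtain ⟨q, hq, hq0⟩ : ∃ q : V × V × V, Good3 A V q ∧ q ≠ 0 := by
    by_cases h : q₀ = 0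
    · subst h
      obtain ⟨v, hv⟩ := exists_ne (0 : V)
      exact ⟨(v, 0, 0), fun a _ _ _ => hq₀ a (smul_zero a) (smul_zero a) (smul_zero a),
        fun e => hv (congrArg Prod.fst e)⟩
    · exact ⟨q₀, hq₀, h⟩
  let q' : Fin 3 → V := ![q.1, q.2.1, q.2.2]
  let T : (Fin 3 → ZMod p) →+ V := (∑ i : Fin 3,
    ((LinearMap.proj i : (Fin 3 → ZMod p) →ₗ[ZMod p] ZMod p).smulRight (q' i))).toAddMonoidHom
  have hT : ∀ i, T (Pi.single i 1) = q' i := by
    intro i
    simp [T, LinearMap.sum_apply, Pi.single_apply]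
  have hTq : ∀ a : A, (∀ i : Fin 3, a • q' i = q' i) → ∀ x : V, a • x = x := fun a h =>
    hq a (h 0) (h 1) (h 2)
  -- the matrices induced by the stabiliser of the span
  let H : Subgroup (Mat3 p) :=
    { carrier := {M | ∃ a : A, ∀ x, a • T x = T ((M : AddMonoid.End (Fin 3 → ZMod p)) x)}
      one_mem' := ⟨1, fun x => by rw [one_smul]; rfl⟩
      mul_mem' := by
        rintro M M' ⟨a, ha⟩ ⟨a', ha'⟩
        exact ⟨a * a', fun x => by rw [mul_smul, ha', ha]; rfl⟩
      inv_mem' := by
        rintro M ⟨a, ha⟩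
        refine ⟨a⁻¹, fun x => ?_⟩
        rw [inv_smul_eq_iff, ha]
        show T x = T (((M : AddMonoid.End (Fin 3 → ZMod p)) * ↑M⁻¹) x)
        rw [Units.mul_inv]
        rfl }
  have hidx : 5 ≤ H.index := by
    by_contra hlt
    have hmem := trv_mem_of_index H (by omega)
    -- the kernel is trivial
    have hinj : Function.Injective T := by
      rw [injective_iff_map_eq_zero]
      intro x hx
      by_contra hx0
      obtain ⟨j, hj⟩ : ∃ j, x j ≠ 0 := Function.ne_iff.1 hx0
      have hker : ∀ (i k : Fin 3) (hik : i ≠ k) (c : ZMod p) (z : Fin 3 → ZMod p), T z = 0 →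
          T (Pi.single i (c * z k)) = 0 := by
        intro i k hik c z hz
        obtain ⟨a, ha⟩ := hmem i k hik c
        have h1 := ha z
        rw [hz, smul_zero] at h1
        change (0 : V) = T (z + Pi.single i (c * z k)) at h1
        rw [map_add, hz, zero_add] at h1
        exact h1.symm
      have hi : ∀ i, i ≠ j → T (Pi.single i 1) = 0 := fun i hij => by
        have := hker i j hij (x j)⁻¹ x hx
        rwa [inv_mul_cancel₀ hj] at this
      have hj' : T (Pi.single j 1) = 0 := by
        obtain ⟨i, hij⟩ := exists_ne j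
        simpa using hker j i hij.symm 1 _ (hi i hij)
      refine hq0 ?_
      have h0 : ∀ i, q' i = 0 := fun i => by
        rw [← hT i]
        rcases eq_or_ne i j with rfl | h
        · exact hj'
        · exact hi i h
      exact Prod.ext (h0 0) (Prod.ext (h0 1) (h0 2))
    -- the group induced on the span is solvable
    let St : Subgroup A :=
      { carrier := {a | ∀ x, a • T x ∈ T.range ∧ a⁻¹ • T x ∈ T.range}
        one_mem' := fun x => by simp
        mul_mem' := by
          intro a a' ha ha' x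
          obtain ⟨y, hy⟩ := (ha' x).1
          obtain ⟨z, hz⟩ := (ha x).2
          rw [mul_smul, ← hy, mul_inv_rev, mul_smul, ← hz]
          exact ⟨(ha y).1, (ha' z).2⟩
        inv_mem' := by
          intro a ha x
          rw [inv_inv]
          exact ⟨(ha x).2, (ha x).1⟩ }
    haveI : Group.IsSolvable St := inferInstance
    have hex : ∀ a : St, ∀ x, ∃ y, T y = (a : A) • T x := fun a x => (a.2 x).1
    choose f hf using hex
    have hadd : ∀ (a : St) x y, f a (x + y) = f a x + f a y := fun a x y => hinj (by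
      rw [hf, map_add, map_add, smul_add, hf, hf])
    let φ0 : St →* AddMonoid.End (Fin 3 → ZMod p) :=
      { toFun := fun a => AddMonoidHom.mk' (f a) (hadd a)
        map_one' := AddMonoidHom.ext fun x => hinj (by
          show T (f 1 x) = T x
          rw [hf]; exact one_smul A (T x))
        map_mul' := fun a a' => AddMonoidHom.ext fun x => hinj (by
          show T (f (a * a') x) = T (f a (f a' x))
          rw [hf, hf, hf]; exact mul_smul _ _ _) }
    let φ := φ0.toHomUnits
    have hle : H ≤ φ.range := by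
      rintro M ⟨a, ha⟩
      have hSt : a ∈ St := fun x => ⟨⟨_, (ha x).symm⟩, ⟨((M⁻¹ : Mat3 p) : AddMonoid.End (Fin 3 → ZMod p)) x, by
        rw [eq_inv_smul_iff, ha]
        show T (((M : AddMonoid.End (Fin 3 → ZMod p)) * ↑M⁻¹) x) = T x
        rw [Units.mul_inv]
        rfl⟩⟩
      exact ⟨⟨a, hSt⟩, Units.ext (AddMonoidHom.ext fun x => hinj ((hf _ x).trans (ha x)))⟩
    haveI : Group.IsSolvable φ.range := Group.isSolvable_of_surjective φ.rangeRestrict_surjective
    haveI : Group.IsSolvable H :=
      Group.isSolvable_of_isSolvable_injective (Subgroup.inclusion_injective hle)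
    -- but the shears are commutators of shears
    obtain ⟨n, hn⟩ := (Group.isSolvable_def H).1 inferInstance
    have hder : ∀ (m : ℕ) (i k : Fin 3) (hik : i ≠ k) (c : ZMod p),
        (⟨trv i k hik c, hmem i k hik c⟩ : H) ∈ derivedSeries H m := by
      intro m
      induction m with
      | zero => intro i k hik c; rw [derivedSeries_zero]; exact Subgroup.mem_top _
      | succ m ih =>
        intro i k hik c
        obtain ⟨l, hil, hlk⟩ := exists_third i k hik
        rw [derivedSeries_succ, show (⟨trv i k hik c, hmem i k hik c⟩ : H) =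
          ⟨trv i l hil c, hmem i l hil c⟩ * ⟨trv l k hlk 1, hmem l k hlk 1⟩ *
            (⟨trv i l hil c, hmem i l hil c⟩ : H)⁻¹ * (⟨trv l k hlk 1, hmem l k hlk 1⟩ : H)⁻¹ from
          Subtype.ext (trv_comm hik hil hlk c)]
        exact Subgroup.commutator_mem_commutator (ih _ _ hil _) (ih _ _ hlk _)
    have h01 := hder n 0 1 (by decide) 1
    rw [hn, Subgroup.mem_bot] at h01
    have h2 : (Pi.single 1 1 : Fin 3 → ZMod p) + Pi.single 0 (1 * (Pi.single 1 1 : Fin 3 → ZMod p) 1) =
        Pi.single 1 1 :=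
      congrArg (fun f : AddMonoid.End (Fin 3 → ZMod p) => f (Pi.single 1 1))
        (congrArg Units.val (congrArg Subtype.val h01))
    rw [add_eq_left, Pi.single_eq_same, one_mul] at h2
    exact one_ne_zero (α := ZMod p) (by simpa using congrFun h2 0)
  haveI : Fintype (Mat3 p ⧸ H) := Fintype.ofFinite _
  obtain ⟨e⟩ : Nonempty (Fin 5 ↪ Mat3 p ⧸ H) := Function.Embedding.nonempty_of_card_le (by
    rw [Fintype.card_fin, ← Nat.card_eq_fintype_card, ← Subgroup.index_eq_card]; exact hidx)
  let M : Fin 5 → Mat3 p := fun i => (e i).out⁻¹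
  let c : Fin 5 → V × V × V := fun i =>
    (T ((M i : AddMonoid.End (Fin 3 → ZMod p)) (Pi.single 0 1)),
      T ((M i : AddMonoid.End (Fin 3 → ZMod p)) (Pi.single 1 1)),
      T ((M i : AddMonoid.End (Fin 3 → ZMod p)) (Pi.single 2 1)))
  have hext : ∀ (F : (Fin 3 → ZMod p) →+ V) (G : (Fin 3 → ZMod p) →+ V),
      (∀ i, F (Pi.single i 1) = G (Pi.single i 1)) → ∀ x, F x = G x := by
    intro F G h x
    rw [← Finset.univ_sum_single x, map_sum, map_sum]
    refine Finset.sum_congr rfl fun i _ => ?_
    have : (Pi.single i (x i) : Fin 3 → ZMod p) = (x i).val • Pi.single i 1 := by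
      rw [← Pi.single_smul, nsmul_one, ZMod.natCast_zmod_val]
    rw [this, map_nsmul, map_nsmul, h]
  have hc : ∀ (a : A) (i j : Fin 5), a • c i = c j → ∀ x,
      a • T ((M i : AddMonoid.End (Fin 3 → ZMod p)) x) = T ((M j : AddMonoid.End (Fin 3 → ZMod p)) x) := by
    intro a i j h
    refine hext ((DistribSMul.toAddMonoidHom V a).comp (T.comp (M i : AddMonoid.End (Fin 3 → ZMod p))))
      (T.comp (M j : AddMonoid.End (Fin 3 → ZMod p))) fun k => ?_
    fin_cases k
    exacts [congrArg Prod.fst h, congrArg (fun z : V × V × V => z.2.1) h,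
      congrArg (fun z : V × V × V => z.2.2) h]
  refine ⟨c, fun i a h1 h2 h3 => hTq a fun k => ?_, fun a i j h => ?_⟩
  · have := hc a i i (Prod.ext h1 (Prod.ext h2 h3)) (((M i)⁻¹ : Mat3 p).1 (Pi.single k 1))
    change a • T (((M i : AddMonoid.End (Fin 3 → ZMod p)) * ↑(M i)⁻¹) (Pi.single k 1)) =
      T (((M i : AddMonoid.End (Fin 3 → ZMod p)) * ↑(M i)⁻¹) (Pi.single k 1)) at this
    rw [Units.mul_inv] at this
    rw [← hT k]
    exact this
  · have hmem : M j * (M i)⁻¹ ∈ H := ⟨a, fun x => by
      have := hc a i j h (((M i)⁻¹ : Mat3 p).1 x)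
      change a • T (((M i : AddMonoid.End (Fin 3 → ZMod p)) * ↑(M i)⁻¹) x) = _ at this
      rw [Units.mul_inv] at this
      exact this⟩
    refine e.injective ?_
    rw [← (e i).out_eq', ← (e j).out_eq', eq_comm, QuotientGroup.eq]
    simpa [M] using hmem

end CfsgLib.TripleBase
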