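import Cfsg.Agent.Lib.TripleBase.Small
import Cfsg.Agent.Lib.TripleBase.Blocks
import Cfsg.Agent.Lib.OddBase.Module
import Mathlib.RingTheory.IntegralDomain

/-!
The quasi-primitive case of bases of size three.
-/

set_option autoImplicit false
set_option linter.unusedSectionVars false

namespace CfsgLib.TripleBase

open CfsgLib.CoprimeBase (Pre scalar_unique)
open CfsgLib.OddBase (Irred ρ ρ_apply alg ρ_mem_alg alg_comm conj_mem_alg Frame)

universe u

/-- The primitive case. -/
theorem quasi3 {A V : Type u} [Group A] [Finite A] [AddCommGroup V] [Finite V] [DistribMulAction A V]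
    (hfa : FaithfulSMul A V) (ha : Setup3 A V)
    (hfield : ∀ X : Subgroup A, (∀ a ∈ X, ∀ b ∈ X, a * b = b * a) →
      (∀ g : A, ∀ a ∈ X, g * a * g⁻¹ ∈ X) → ∀ r ∈ alg V X, r ≠ 0 →
        Function.Injective r ∧ ∃ a : A, ρ A V a = r) : Base3 A V := by
  classical
  haveI := hfa
  haveI := ha.nontrivial
  haveI hsol : Group.IsSolvable A := ha.solvable
  have hfaith : ∀ a : A, (∀ v : V, a • v = v) → a = 1 := fun a h =>
    FaithfulSMul.eq_of_smul_eq_smul (α := V) fun v => by rw [one_smul]; exact h v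
  have hfpf : ∀ X : Subgroup A, (∀ a ∈ X, ∀ b ∈ X, a * b = b * a) →
      (∀ g : A, ∀ a ∈ X, g * a * g⁻¹ ∈ X) → ∀ x ∈ X, ∀ v : V, v ≠ 0 → x • v = v → x = 1 := by
    intro X hc hn x hx v hv0 hv
    by_contra hx1
    have hr : ρ A V x - 1 ≠ 0 := fun e => hx1 (hfaith x fun w => by
      exact congrArg (fun f : AddMonoid.End V => f w) (sub_eq_zero.1 e))
    refine hv0 ((hfield X hc hn _ (sub_mem (ρ_mem_alg hx) (one_mem _)) hr).1 ?_)
    show x • v - v = (ρ A V x - 1) 0
    rw [hv, sub_self, map_zero]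
  -- a maximal abelian normal subgroup
  obtain ⟨Z, ⟨hZc, hZn⟩, hZmax⟩ := Set.Finite.exists_maximal
    (s := {X : Subgroup A | (∀ a ∈ X, ∀ b ∈ X, a * b = b * a) ∧
      ∀ g : A, ∀ a ∈ X, g * a * g⁻¹ ∈ X}) (Set.toFinite _)
    ⟨⊥, fun a ha b hb => by simp_all [Subgroup.mem_bot], fun g a ha => by simp_all [Subgroup.mem_bot]⟩
  have hZfpf := hfpf Z hZc hZn
  -- the field generated by `Z`
  let L := ↥(alg V Z)
  letI : CommRing L := { (inferInstance : Ring L) with
    mul_comm := fun r s => Subtype.ext (alg_comm hZc r.2 s.2) }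
  haveI : Finite (AddMonoid.End V) :=
    Finite.of_injective (fun r : AddMonoid.End V => (r : V → V)) DFunLike.coe_injective
  haveI : Nontrivial L := by
    refine ⟨0, 1, fun e => ?_⟩
    obtain ⟨v, hv⟩ := exists_ne (0 : V)
    exact hv (congrArg (fun f : AddMonoid.End V => f v) (congrArg Subtype.val e)).symm
  haveI : NoZeroDivisors L := ⟨fun {r s} h => by
    by_contra hc
    rw [not_or] at hc
    refine hc.2 (Subtype.ext (AddMonoidHom.ext fun v => ?_))
    refine (hfield Z hZc hZn r.1 r.2 (fun e => hc.1 (Subtype.ext e))).1 ?_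
    show r.1 (s.1 v) = r.1 0
    rw [map_zero]
    exact congrArg (fun f : AddMonoid.End V => f v) (congrArg Subtype.val h)⟩
  haveI : IsDomain L := NoZeroDivisors.to_isDomain L
  letI : Field L := (Finite.isField_of_domain L).toField
  let lam : ↥Z → L := fun z => ⟨ρ A V z, ρ_mem_alg z.2⟩
  have hlam : ∀ (z : ↥Z) (v : V), lam z • v = (z : A) • v := fun z v => rfl
  have hlam_inj : Function.Injective lam := fun z w e => Subtype.ext
    (FaithfulSMul.eq_of_smul_eq_smul (α := V) fun v => by rw [← hlam, ← hlam, e])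
  let lamHom : ↥Z →* L :=
    { toFun := lam
      map_one' := Subtype.ext (map_one (ρ A V))
      map_mul' := fun z w => Subtype.ext (map_mul (ρ A V) (z : A) w) }
  haveI hcyc : IsCyclic ↥Z := isCyclic_of_subgroup_isDomain lamHom hlam_inj
  -- its centralizer
  let C : Subgroup A := Subgroup.centralizer (Z : Set A)
  have hZC : Z ≤ C := fun z hz w hw => hZc w hw z hz
  have hcent : ∀ c ∈ C, ∀ z ∈ Z, c * z = z * c := fun c hc z hz => (hc z hz).symm
  have hCn : ∀ g : A, ∀ c ∈ C, g * c * g⁻¹ ∈ C := fun g c hc z hz => by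
    have h := hc _ (hZn g⁻¹ z hz)
    calc z * (g * c * g⁻¹) = g * ((g⁻¹ * z * g⁻¹⁻¹) * c) * g⁻¹ := by group
      _ = g * (c * (g⁻¹ * z * g⁻¹⁻¹)) * g⁻¹ := by rw [h]
      _ = g * c * g⁻¹ * z := by group
  have hlin : ∀ c ∈ C, ∀ (r : L) (v : V), c • r • v = r • c • v := by
    intro c hc r v
    have hle : alg V Z ≤ Subring.centralizer {ρ A V c} := by
      refine Subring.closure_le.2 ?_
      rintro _ ⟨z, hz, rfl⟩
      exact Subring.mem_centralizer_iff.2 fun w hw => by
        rw [Set.mem_singleton_iff.1 hw, ← map_mul, ← map_mul, hcent c hc z hz]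
    exact congrArg (fun f : AddMonoid.End V => f v) (Subring.mem_centralizer_iff.1 (hle r.2) _ rfl)
  obtain ⟨x, hxgen⟩ := hcyc.exists_generator
  have hCx : ∀ a : A, a * (x : A) = x * a → a ∈ C := by
    intro a ha z hz
    obtain ⟨k, hk⟩ := Subgroup.mem_zpowers_iff.1 (hxgen ⟨z, hz⟩)
    have hk' : (x : A) ^ k = z := congrArg Subtype.val hk
    rw [← hk']
    exact ((show Commute a (x : A) from ha).zpow_right k).symm.eq
  by_cases hCZ : C ≤ Z
  · -- semilinear case
    obtain ⟨v, hv⟩ := exists_ne (0 : V)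
    refine ⟨(v, (x : A) • v, 0), fun a h1 h2 _ => ?_⟩
    have h3 : ((x : A)⁻¹ * (a * x * a⁻¹)) • v = v := by
      have hav : a⁻¹ • v = v := inv_smul_eq_iff.2 h1.symm
      rw [mul_smul, mul_smul, mul_smul, hav, inv_smul_eq_iff]
      exact h2
    have h4 := hZfpf _ (Z.mul_mem (Z.inv_mem x.2) (hZn a x x.2)) v hv h3
    rw [inv_mul_eq_one] at h4
    have haC : a ∈ C := hCx a (mul_inv_eq_iff_eq_mul.1 h4.symm)
    have := hZfpf a (hCZ haC) v hv h1
    intro w
    rw [this, one_smul]
  -- a maximal class two subgroup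
  obtain ⟨B, ⟨hZB, hBC, hBn, hBcl⟩, hBmax⟩ := Set.Finite.exists_maximal
    (s := {B : Subgroup A | Z ≤ B ∧ B ≤ C ∧ (∀ g : A, ∀ b ∈ B, g * b * g⁻¹ ∈ B) ∧
      ∀ a ∈ B, ∀ b ∈ B, a * b * a⁻¹ * b⁻¹ ∈ Z}) (Set.toFinite _)
    ⟨Z, le_rfl, hZC, hZn, fun a ha b hb =>
      Z.mul_mem (Z.mul_mem (Z.mul_mem ha hb) (Z.inv_mem ha)) (Z.inv_mem hb)⟩
  have hnormD : ∀ g : A, ∀ d ∈ C ⊓ Subgroup.centralizer (B : Set A),
      g * d * g⁻¹ ∈ C ⊓ Subgroup.centralizer (B : Set A) := fun g d hd => ⟨hCn g d hd.1, fun b hb => by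
    have h := hd.2 _ (hBn g⁻¹ b hb)
    calc b * (g * d * g⁻¹) = g * ((g⁻¹ * b * g⁻¹⁻¹) * d) * g⁻¹ := by group
      _ = g * (d * (g⁻¹ * b * g⁻¹⁻¹)) * g⁻¹ := by rw [h]
      _ = g * d * g⁻¹ * b := by group⟩
  have hrad : ∀ y ∈ B, (∀ b ∈ B, y * b = b * y) → y ∈ Z := by
    intro y hy hyb
    refine hZmax (y := B ⊓ Subgroup.centralizer (B : Set A))
      ⟨fun a ha b hb => (ha.2 b hb.1).symm, fun g a ha => ?_⟩ ?_ ⟨hy, fun b hb => (hyb b hb).symm⟩
    · exact ⟨hBn g a ha.1, (hnormD g a ⟨hBC ha.1, ha.2⟩).2⟩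
    · exact le_inf hZB fun z hz b hb => (hBC hb) z hz |>.symm
  have hself : C ⊓ Subgroup.centralizer (B : Set A) ≤ Z := by
    by_contra hD
    obtain ⟨X, ⟨hXn, hXD, hXZ⟩, hXmin⟩ := Set.Finite.exists_minimal
      (s := {X : Subgroup A | X.Normal ∧ X ≤ C ⊓ Subgroup.centralizer (B : Set A) ∧ ¬ X ≤ Z})
      (Set.toFinite _) ⟨_, ⟨fun d hd g => hnormD g d hd⟩, le_rfl, hD⟩
    haveI := hXn
    have hXne : X ≠ ⊥ := fun e => hXZ (e ▸ bot_le)
    have hlt : ⁅X, X⁆ < X := IsSolvable.commutator_lt_of_ne_bot hXne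
    have hXX : ⁅X, X⁆ ≤ Z := by
      by_contra h
      exact hlt.not_ge (hXmin ⟨inferInstance, hlt.le.trans hXD, h⟩ hlt.le)
    haveI hBn' : B.Normal := ⟨fun b hb g => hBn g b hb⟩
    have hB' : B ⊔ X ∈ {B : Subgroup A | Z ≤ B ∧ B ≤ C ∧ (∀ g : A, ∀ b ∈ B, g * b * g⁻¹ ∈ B) ∧
        ∀ a ∈ B, ∀ b ∈ B, a * b * a⁻¹ * b⁻¹ ∈ Z} := by
      refine ⟨hZB.trans le_sup_left, sup_le hBC (hXD.trans inf_le_left),
        fun g b hb => (inferInstance : (B ⊔ X).Normal).conj_mem b hb g, fun s hs t ht => ?_⟩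
      obtain ⟨b, hb, y, hy, rfl⟩ := Subgroup.mem_sup_of_normal_left.1 hs
      obtain ⟨b', hb', y', hy', rfl⟩ := Subgroup.mem_sup_of_normal_left.1 ht
      have c2 : Commute b y' := (hXD hy').2 b hb
      have c3 : Commute b' y := (hXD hy).2 b' hb'
      have c4 : Commute b' y' := (hXD hy').2 b' hb'
      have c1 : Commute b y := (hXD hy).2 b hb
      have e : b * y * (b' * y') * (b * y)⁻¹ * (b' * y')⁻¹ =
          (b * b' * b⁻¹ * b'⁻¹) * (y * y' * y⁻¹ * y'⁻¹) := by
        calc b * y * (b' * y') * (b * y)⁻¹ * (b' * y')⁻¹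
            = b * (y * b') * (y' * y⁻¹ * b⁻¹) * y'⁻¹ * b'⁻¹ := by group
          _ = b * (b' * y) * (b⁻¹ * (y' * y⁻¹)) * y'⁻¹ * b'⁻¹ := by
            rw [c3.eq, ((c2.inv_left).mul_right (c1.inv_left.inv_right)).eq]
          _ = b * b' * (y * b⁻¹) * y' * y⁻¹ * y'⁻¹ * b'⁻¹ := by group
          _ = b * b' * (b⁻¹ * y) * y' * y⁻¹ * y'⁻¹ * b'⁻¹ := by rw [c1.inv_left.eq]
          _ = b * b' * b⁻¹ * ((y * y' * y⁻¹ * y'⁻¹) * b'⁻¹) := by group
          _ = b * b' * b⁻¹ * (b'⁻¹ * (y * y' * y⁻¹ * y'⁻¹)) := by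
            rw [((((c3.mul_right c4).mul_right c3.inv_right).mul_right c4.inv_right).inv_left).eq]
          _ = _ := by group
      rw [e]
      exact Z.mul_mem (hBcl b hb b' hb') (hXX (Subgroup.commutator_mem_commutator hy hy'))
    have hXB : X ≤ B := le_sup_right.trans (hBmax hB' le_sup_left)
    exact hXZ fun y hy => hrad y (hXB hy) fun b hb => ((hXD hy).2 b hb).symm
  have F : Frame Z B C :=
    { pair := ⟨hZB, hcyc, fun z hz b hb => (hcent b (hBC hb) z hz).symm, hBcl, hrad⟩
      normalZ := hZn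
      normalB := hBn
      normalC := hCn
      le := hBC
      cent := hcent
      self := hself
      max := fun Y h1 h2 h3 h4 => hZmax ⟨h3, h4⟩ h1 }
  have hfull : ∀ c : L, c ≠ 0 → ∃ z ∈ Z, ∀ w : V, z • w = c • w := by
    intro c hc
    obtain ⟨a, hac⟩ := (hfield Z hZc hZn c.1 c.2 fun e => hc (Subtype.ext e)).2
    refine ⟨a, ?_, fun w => congrArg (fun f : AddMonoid.End V => f w) hac⟩
    let U : Subgroup A :=
      { carrier := {g | ρ A V g ∈ alg V Z}
        one_mem' := by
          show ρ A V 1 ∈ alg V Z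
          rw [map_one]
          exact one_mem _
        mul_mem' := fun {g h} hg hh => by
          show ρ A V (g * h) ∈ alg V Z
          rw [map_mul]
          exact mul_mem hg hh
        inv_mem' := fun {g} hg => by
          show ρ A V g⁻¹ ∈ alg V Z
          obtain ⟨i, hi⟩ : ∃ i : ℕ, g ^ i = g⁻¹ := ⟨orderOf g - 1, by
            refine eq_inv_of_mul_eq_one_left ?_
            rw [← pow_succ, Nat.sub_add_cancel (orderOf_pos g), pow_orderOf_eq_one]⟩
          rw [← hi, map_pow]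
          exact pow_mem hg i }
    refine hZmax (y := U) ⟨fun g hg h hh => ?_, fun g h hh => ?_⟩ (fun z hz => ρ_mem_alg hz)
      (show ρ A V a ∈ alg V Z from hac ▸ c.2)
    · refine FaithfulSMul.eq_of_smul_eq_smul (α := V) fun w => ?_
      have h1 := congrArg (fun f : AddMonoid.End V => f w) (alg_comm hZc hg hh)
      rw [mul_smul, mul_smul]
      exact h1
    · show ρ A V (g * h * g⁻¹) ∈ alg V Z
      rw [map_mul, map_mul]
      exact conj_mem_alg hZn g hh
  have hscal : ∀ g : A, (∃ c : L, ∀ w : V, g • w = c • w) → g ∈ Z := by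
    rintro g ⟨c, hc⟩
    have hc0 : c ≠ 0 := by
      rintro rfl
      obtain ⟨v, hv⟩ := exists_ne (0 : V)
      exact hv ((smul_eq_zero_iff_eq g).1 (by rw [hc, zero_smul]))
    obtain ⟨z, hz, hzw⟩ := hfull c hc0
    rwa [FaithfulSMul.eq_of_smul_eq_smul (α := V) fun w => (hc w).trans (hzw w).symm]
  have hZscal : ∀ z ∈ Z, ∃ c : L, ∀ w : V, z • w = c • w := fun z hz => ⟨lam ⟨z, hz⟩, fun w => rfl⟩
  -- the exponent
  haveI hBZn := F.subgroupOf_normal
  have hexN : ∃ N : ℕ, 0 < N ∧ ∀ b ∈ B, b ^ N ∈ Z :=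
    ⟨Nat.card A, Nat.card_pos, fun b _ => by rw [pow_card_eq_one']; exact Z.one_mem⟩
  obtain ⟨m, ⟨hm0, hm⟩, hmmin⟩ := wellFounded_lt.has_min {N : ℕ | 0 < N ∧ ∀ b ∈ B, b ^ N ∈ Z} hexN
  have hsqm : Squarefree m := by
    rw [Nat.squarefree_iff_prime_squarefree]
    rintro p hp ⟨k, rfl⟩
    have hk : 0 < k := Nat.pos_of_mul_pos_left hm0
    refine hmmin (p * k) ⟨Nat.mul_pos hp.pos hk, fun b hb => ?_⟩
      ((Nat.mul_lt_mul_right hk).2 (lt_mul_of_one_lt_left hp.pos hp.one_lt))
    have := F.pow_mem_of_pow_sq_mem p (B.pow_mem hb k) (by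
      rw [← pow_mul, ← pow_mul]
      convert hm b hb using 2
      ring)
    rw [← pow_mul] at this
    rwa [mul_comm] at this
  have hroots : ∀ r : ℕ, r.Prime → (r ≠ 2 ∨ 4 ∣ Nat.card L - 1) → ∀ b ∈ B, ∀ c : L,
      (∀ w : V, (b ^ r) • w = c • w) → ∃ d : L, c = d ^ r := by
    intro r hr hcond b hb c hc
    have hbr : b ^ r ∈ Z := hscal _ ⟨c, hc⟩
    have hval : ∀ (z : ↥Z) (e : L), (∀ w : V, (z : A) • w = e • w) → e = lam z := fun z e he =>
      scalar_unique (W := V) fun w => (he w).symm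
    have hcval : c = lam ⟨b ^ r, hbr⟩ := hval _ c hc
    by_cases hrm : r ∣ m
    swap
    · have hbZ : b ∈ Z := by
        have h1 : b ^ Nat.gcd r m ∈ Z := by
          rw [← zpow_natCast, Nat.gcd_eq_gcd_ab, zpow_add, zpow_mul, zpow_mul, zpow_natCast,
            zpow_natCast]
          exact Z.mul_mem (Z.zpow_mem hbr _) (Z.zpow_mem (hm b hb) _)
        rwa [(hr.coprime_iff_not_dvd.2 hrm).gcd_eq_one, pow_one] at h1
      refine ⟨lam ⟨b, hbZ⟩, ?_⟩
      rw [hcval]
      exact lamHom.map_pow ⟨b, hbZ⟩ r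
    obtain ⟨m', rfl⟩ := hrm
    let uZ : ↥Z →* Lˣ := MonoidHom.toHomUnits lamHom
    let Q := Lˣ ⧸ (powMonoidHom r : Lˣ →* Lˣ).range
    have hsign : ∀ x : Lˣ, x ^ 2 = 1 → x ∈ (powMonoidHom r : Lˣ →* Lˣ).range := by
      intro x hx
      by_cases hr2 : r = 2
      · subst hr2
        have h4 := hcond.resolve_left (by simp)
        have hx' : (x : L) = 1 ∨ (x : L) = -1 := by
          have h1 : (x : L) ^ 2 = 1 := by rw [← Units.val_pow_eq_pow_val, hx, Units.val_one]
          exact sq_eq_one_iff.1 h1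
        rcases hx' with e | e
        · exact ⟨1, by rw [powMonoidHom_apply, one_pow]; exact (Units.ext e).symm⟩
        · haveI := Fintype.ofFinite L
          obtain ⟨s, hs⟩ : IsSquare (-1 : L) := by
            rw [FiniteField.isSquare_neg_one_iff, ← Nat.card_eq_fintype_card]
            have : 1 < Nat.card L := Finite.one_lt_card
            omega
          have hs0 : s ≠ 0 := by
            rintro rfl
            rw [mul_zero, neg_eq_zero] at hs
            exact one_ne_zero hs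
          refine ⟨Units.mk0 s hs0, Units.ext ?_⟩
          rw [powMonoidHom_apply, Units.val_pow_eq_pow_val, Units.val_mk0, pow_two, ← hs, e]
      · refine ⟨x, ?_⟩
        obtain ⟨k, hk⟩ := hr.odd_of_ne_two hr2
        rw [powMonoidHom_apply, hk, pow_succ, pow_mul, hx, one_pow, one_mul]
    let ψ : ↥B →* Q :=
      { toFun := fun x => ((uZ ⟨(x : A) ^ (r * m'), hm x x.2⟩ : Lˣ) : Q)
        map_one' := by
          have : (⟨((1 : ↥B) : A) ^ (r * m'), hm _ (1 : ↥B).2⟩ : ↥Z) = 1 :=
            Subtype.ext (by simp)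
          rw [this, map_one, QuotientGroup.mk_one]
        map_mul' := fun x x' => by
          set χ : A := (x' : A) * x * (x' : A)⁻¹ * (x : A)⁻¹ with hχdef
          have hχ : χ ∈ Z := hBcl _ x'.2 _ x.2
          have hswap : ∀ i : ℕ, (x' : A) ^ i * x = χ ^ i * (x * (x' : A) ^ i) := by
            intro i
            induction i with
            | zero => simp
            | succ i ih =>
              calc (x' : A) ^ (i + 1) * x = x' * ((x' : A) ^ i * x) := by rw [pow_succ', mul_assoc]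
                _ = x' * χ ^ i * (x * (x' : A) ^ i) := by rw [ih, mul_assoc]
                _ = χ ^ i * (x' * x) * (x' : A) ^ i := by
                  rw [← F.pair.central _ (Z.pow_mem hχ i) _ x'.2]; group
                _ = χ ^ i * (χ * (x * x')) * (x' : A) ^ i := by rw [hχdef]; group
                _ = _ := by rw [pow_succ, pow_succ']; group
          have hpow : ∀ i : ℕ, ((x : A) * x') ^ i = χ ^ (i.choose 2) * ((x : A) ^ i * (x' : A) ^ i) := by
            intro i
            induction i with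
            | zero => simp
            | succ i ih =>
              calc ((x : A) * x') ^ (i + 1) = χ ^ (i.choose 2) * ((x : A) ^ i * ((x' : A) ^ i * x)) * x' := by
                    rw [pow_succ, ih]; group
                _ = χ ^ (i.choose 2) * ((x : A) ^ i * χ ^ i) * (x * (x' : A) ^ i) * x' := by
                  rw [hswap]; group
                _ = χ ^ (i.choose 2) * (χ ^ i * (x : A) ^ i) * (x * (x' : A) ^ i) * x' := by
                  rw [F.pair.central _ (Z.pow_mem hχ i) _ (B.pow_mem x.2 i)]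
                _ = _ := by
                  rw [Nat.choose_succ_succ', Nat.choose_one_right, add_comm i (i.choose 2), pow_add]
                  simp only [pow_succ]
                  group
          have hχm : χ ^ (r * m') = 1 := by
            rw [hχdef, F.chi_pow x'.2 x.2, ← F.pair.central _ (hm _ x.2) _ x'.2,
              mul_inv_cancel_right, mul_inv_cancel]
          have e : (⟨((x * x' : ↥B) : A) ^ (r * m'), hm _ (x * x').2⟩ : ↥Z) =
              (⟨χ, hχ⟩ : ↥Z) ^ ((r * m').choose 2) *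
                (⟨(x : A) ^ (r * m'), hm _ x.2⟩ * ⟨(x' : A) ^ (r * m'), hm _ x'.2⟩) :=
            Subtype.ext (hpow (r * m'))
          rw [e, map_mul, map_mul, QuotientGroup.mk_mul, QuotientGroup.mk_mul]
          convert one_mul _ using 2
          rw [QuotientGroup.eq_one_iff]
          refine hsign _ ?_
          rw [← map_pow, ← pow_mul, ← map_one uZ]
          congr 1
          apply Subtype.ext
          show χ ^ ((r * m').choose 2 * 2) = 1
          rw [Nat.choose_two_right, Nat.div_mul_cancel (Nat.even_mul_pred_self _).two_dvd, pow_mul,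
            hχm, one_pow] }
    have hr0 : 0 < m' := Nat.pos_of_mul_pos_left hm0
    have hc' : c ^ m' ∈ Set.range (fun d : L => d ^ r) := by
      have hbm : b ^ (r * m') ∈ Z := hm b hb
      have hcm : c ^ m' = lam ⟨b ^ (r * m'), hbm⟩ := by
        rw [hcval, show (⟨b ^ (r * m'), hbm⟩ : ↥Z) = (⟨b ^ r, hbr⟩ : ↥Z) ^ m' from
          Subtype.ext (pow_mul b r m')]
        exact (lamHom.map_pow _ m').symm
      suffices hK : ψ.ker = ⊤ by
        have h1 : ψ ⟨b, hb⟩ = 1 := by
          rw [← MonoidHom.mem_ker, hK]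
          trivial
        obtain ⟨d, hd⟩ := (QuotientGroup.eq_one_iff _).1 h1
        refine ⟨(d : L), ?_⟩
        rw [hcm]
        have := congrArg (fun u : Lˣ => (u : L)) hd
        simp only [powMonoidHom_apply, Units.val_pow_eq_pow_val] at this
        exact this
      by_contra hK
      let K : Subgroup A := ψ.ker.map B.subtype
      have hKB : K ≤ B := by
        rintro _ ⟨x, -, rfl⟩
        exact x.2
      have hKmem : ∀ x : ↥B, (x : A) ∈ K ↔ ψ x = 1 := fun x => ⟨fun ⟨x', hx', e⟩ => by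
        rw [← Subtype.ext e]; exact hx', fun h => ⟨x, h, rfl⟩⟩
      have hZK : Z ≤ K := fun z hz => (hKmem ⟨z, F.pair.le hz⟩).2 (by
        show ((uZ ⟨z ^ (r * m'), _⟩ : Lˣ) : Q) = 1
        rw [QuotientGroup.eq_one_iff]
        refine ⟨uZ (⟨z, hz⟩ ^ m'), ?_⟩
        rw [powMonoidHom_apply, ← map_pow]
        congr 1
        apply Subtype.ext
        show (z ^ m') ^ r = z ^ (r * m')
        rw [← pow_mul, mul_comm])
      have hKn : ∀ g : A, ∀ x ∈ K, g * x * g⁻¹ ∈ K := by
        intro g x hx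
        have hxB := hKB hx
        obtain ⟨d, hd⟩ := (QuotientGroup.eq_one_iff _).1 ((hKmem ⟨x, hxB⟩).1 hx)
        obtain ⟨zd, hzd, hzdw⟩ := hfull (d : L) d.ne_zero
        refine (hKmem ⟨g * x * g⁻¹, hBn g x hxB⟩).2 ((QuotientGroup.eq_one_iff _).2
          ⟨uZ ⟨g * zd * g⁻¹, hZn g zd hzd⟩, ?_⟩)
        have hd' : (⟨zd, hzd⟩ : ↥Z) ^ r = ⟨x ^ (r * m'), hm x hxB⟩ := hlam_inj (by
          have h1 := congrArg (fun u : Lˣ => (u : L)) hd
          simp only [powMonoidHom_apply, Units.val_pow_eq_pow_val] at h1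
          have h2 : (d : L) = lam ⟨zd, hzd⟩ := hval _ _ hzdw
          rw [h2] at h1
          exact (lamHom.map_pow _ r).trans h1)
        rw [powMonoidHom_apply, ← map_pow]
        congr 1
        apply Subtype.ext
        show (g * zd * g⁻¹) ^ r = (g * x * g⁻¹) ^ (r * m')
        rw [conj_pow, conj_pow, show zd ^ r = x ^ (r * m') from congrArg Subtype.val hd']
      have hKidx : K.relIndex B = r := by
        have h1 : K.relIndex B = ψ.ker.index := by
          show (K.subgroupOf B).index = _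
          congr 1
          exact Subgroup.comap_map_eq_self_of_injective B.subtype_injective _
        rw [h1, Subgroup.index_ker]
        have hdvd : Nat.card ↥ψ.range ∣ r := by
          refine (Subgroup.card_subgroup_dvd_card _).trans ?_
          show (powMonoidHom r : Lˣ →* Lˣ).range.index ∣ r
          rw [IsCyclic.index_powMonoidHom_range]
          exact Nat.gcd_dvd_right _ _
        refine (hr.eq_one_or_self_of_dvd _ hdvd).resolve_left fun e => hK ?_
        rw [← Subgroup.index_eq_one, Subgroup.index_ker, e]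
      let Y := B ⊓ Subgroup.centralizer (K : Set A)
      have hperp := F.pair.relIndex_perp K hZK hKB
      have hZY : Z ≤ Y := le_inf F.pair.le fun z hz k hk => (F.pair.central z hz k (hKB hk)).symm
      have hYidx : Z.relIndex Y = r := by
        have e1 := Subgroup.relIndex_mul_relIndex Z Y B hZY inf_le_left
        have e2 := Subgroup.relIndex_mul_relIndex Z K B hZK hKB
        rw [show Y.relIndex B = Z.relIndex K from hperp] at e1
        rw [hKidx] at e2
        have hne : Z.relIndex K ≠ 0 := Subgroup.index_ne_zero_of_finite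
        refine Nat.eq_of_mul_eq_mul_right (Nat.pos_of_ne_zero hne) ?_
        rw [e1, ← e2, mul_comm]
      haveI : (Z.subgroupOf Y).Normal := ⟨fun n hn g => by
        show ((g * n * g⁻¹ : ↥Y) : A) ∈ Z
        exact hZn _ _ hn⟩
      haveI := Fact.mk hr
      haveI : IsCyclic (↥Y ⧸ Z.subgroupOf Y) := isCyclic_of_prime_card (p := r) hYidx
      obtain ⟨q, hq⟩ := IsCyclic.exists_generator (α := ↥Y ⧸ Z.subgroupOf Y)
      obtain ⟨x, rfl⟩ := QuotientGroup.mk_surjective q
      have hform : ∀ a ∈ Y, ∃ i : ℤ, ∃ z ∈ Z, a = (x : A) ^ i * z := by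
        intro a ha'
        obtain ⟨i, hi⟩ := Subgroup.mem_zpowers_iff.1 (hq ((⟨a, ha'⟩ : ↥Y) : ↥Y ⧸ Z.subgroupOf Y))
        rw [← QuotientGroup.mk_zpow, QuotientGroup.eq] at hi
        exact ⟨i, _, hi, by simp⟩
      have hYab : ∀ a ∈ Y, ∀ b' ∈ Y, a * b' = b' * a := by
        intro a ha1 b' hb1
        obtain ⟨i, z, hz, rfl⟩ := hform a ha1
        obtain ⟨j, z', hz', rfl⟩ := hform b' hb1
        have hxB : (x : A) ∈ B := x.2.1
        have c1 : Commute ((x : A) ^ i) z' := (F.pair.central z' hz' _ (B.zpow_mem hxB i)).symm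
        have c2 : Commute z ((x : A) ^ j) := F.pair.central z hz _ (B.zpow_mem hxB j)
        have c3 : Commute z z' := F.pair.central z hz z' (F.pair.le hz')
        exact (((Commute.refl (x : A)).zpow_zpow i j).mul_right c1).mul_left (c2.mul_right c3)
      have hYn : ∀ g : A, ∀ a ∈ Y, g * a * g⁻¹ ∈ Y := by
        intro g a ha1
        refine ⟨hBn g a ha1.1, fun k hk => ?_⟩
        have h := ha1.2 _ (hKn g⁻¹ k hk)
        calc k * (g * a * g⁻¹) = g * ((g⁻¹ * k * g⁻¹⁻¹) * a) * g⁻¹ := by group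
          _ = g * (a * (g⁻¹ * k * g⁻¹⁻¹)) * g⁻¹ := by rw [h]
          _ = g * a * g⁻¹ * k := by group
      have h1 := F.max Y hZY inf_le_left hYab hYn
      rw [← Subgroup.relIndex_eq_one, hYidx] at h1
      exact hr.one_lt.ne' h1
    obtain ⟨d, hd⟩ := hc'
    have hcop : Nat.Coprime m' r := (Nat.coprime_of_squarefree_mul hsqm).symm
    obtain ⟨j, -, hj⟩ := Nat.exists_mul_mod_eq_one_of_coprime hcop hr.one_lt
    have hc0 : c ≠ 0 := fun e => by
      obtain ⟨v, hv⟩ := exists_ne (0 : V)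
      exact hv ((smul_eq_zero_iff_eq (b ^ r)).1 (by rw [hc, e, zero_smul]))
    refine ⟨d ^ j * (c ^ (m' * j / r))⁻¹, ?_⟩
    rw [mul_pow, ← pow_mul, mul_comm j r, pow_mul, show d ^ r = c ^ m' from hd, ← pow_mul, inv_pow,
      ← pow_mul, eq_mul_inv_iff_mul_eq₀ (pow_ne_zero _ hc0), ← pow_succ']
    congr 1
    have := Nat.div_add_mod (m' * j) r
    rw [mul_comm (m' * j / r) r]
    omega
  have hpre : Pre A L V B :=
    { solvable := hsol
      nontrivial := inferInstance
      normal := hBn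
      semi := fun g c => ⟨⟨ρ A V g * c.1 * ρ A V g⁻¹, conj_mem_alg hZn g c.2⟩, fun w => by
        show g • (c.1 w) = g • c.1 (g⁻¹ • g • w)
        rw [inv_smul_smul]⟩
      lin := fun b hb c w => hlin b (hBC hb) c w
      scal := fun c hc => by
        obtain ⟨z, hz, hzw⟩ := hfull c hc
        exact ⟨z, hZB hz, hzw⟩
      comm := fun a ha' b hb => ⟨lam ⟨_, hBcl a ha' b hb⟩, fun w => by
        show a • b • w = (a * b * a⁻¹ * b⁻¹) • b • a • w
        simp only [← mul_smul]
        congr 1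
        group⟩
      centre := fun a ha' h => hZscal a (F.pair.rad a ha' fun b hb =>
        FaithfulSMul.eq_of_smul_eq_smul (α := V) fun w => by rw [mul_smul, mul_smul]; exact h b hb w)
      sqfree := ⟨m, hsqm, fun b hb => hZscal _ (hm b hb)⟩
      roots := hroots }
  obtain ⟨v, w, t, hgood, hv⟩ := cen3_all hpre
  refine ⟨(v, w, t), fun g g1 g2 g3 x => ?_⟩
  obtain ⟨hl, hc⟩ := hgood g g1 g2 g3
  have hgC : g ∈ C := fun z hz => FaithfulSMul.eq_of_smul_eq_smul (α := V) fun u => by
    rw [mul_smul, mul_smul, ← hlam ⟨z, hz⟩ u, hl, hlam]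
  have hgB : g ∈ Subgroup.centralizer (B : Set A) := fun b hb =>
    FaithfulSMul.eq_of_smul_eq_smul (α := V) fun u => by rw [mul_smul, mul_smul, hc b hb]
  rw [hZfpf g (hself ⟨hgC, hgB⟩) v hv g1, one_smul]

end CfsgLib.TripleBase
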