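import Cfsg.Agent.Lib.TripleBase.Lift

/-!
Triples by recursion on fixed spaces.
-/

set_option autoImplicit false
set_option linter.unusedSectionVars false

namespace CfsgLib.TripleBase

open CfsgLib.CoprimeBase (Pre Free Step scalar_unique Rich exists_unit_pow_ne)
open CfsgLib.CoprimeBase.Step (proj)

universe u

section

variable {Γ L W : Type u} [Group Γ] [Field L] [AddCommGroup W] [Module L W] [DistribMulAction Γ W]
  {B : Subgroup Γ} {hs : Pre Γ L W B} {y b : Γ} {r : ℕ} {ζ d : L}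
variable (S : Step hs y b r ζ d)
include S

/-- An element that is linear on the fixed space is linear. -/
theorem linear_of_sub [Finite Γ] {v : W} (hv : v ∈ S.W0) (hv0 : v ≠ 0) {g : Γ} (hgv : g • v = v)
    (hlin : ∀ (c : L), ∀ u ∈ S.W0, g • c • u = c • g • u) (c : L) (w : W) :
    g • c • w = c • g • w := by
  obtain ⟨e, he⟩ := hs.semi g c
  have h1 := he v
  rw [hlin c v hv, hgv] at h1
  have h3 : (c - e) • v = 0 := by rw [sub_smul, h1, sub_self]
  rw [he, sub_eq_zero.1 ((smul_eq_zero.1 h3).resolve_right hv0)]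

/-- Lifting for odd `r`. -/
theorem lift_odd [Finite Γ] (hr2 : r ≠ 2) (h : @Trip ↥S.N _ L ↥S.W0 _ _ _ S.act S.B0) :
    Trip L W B := by
  haveI := hs.nontrivial
  haveI : NeZero r := ⟨S.prime.ne_zero⟩
  obtain ⟨v, w, t, D, hsum⟩ := sub_data S h
  have hvw : v + w ∈ S.W0 := add_mem D.hv D.hw
  have h1r : (1 : L) ^ r = 1 := one_pow r
  have hζr : ζ ^ r = 1 := S.root.pow_eq_one
  have hζ1 : ζ ≠ 1 := S.root.ne_one S.prime.one_lt
  have hζ2r : (ζ ^ 2) ^ r = 1 := by rw [← pow_mul, mul_comm, pow_mul, hζr, one_pow]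
  have hsq : ∀ δ : L, δ ^ r = 1 → δ ≠ 1 → δ ^ 2 ≠ 1 := fun δ hδ hδ1 e => by
    haveI := Fact.mk S.prime
    have hord : orderOf δ = r := orderOf_eq_prime hδ hδ1
    exact hr2 ((Nat.prime_dvd_prime_iff_eq S.prime Nat.prime_two).1
      (hord ▸ orderOf_dvd_of_pow_eq_one e))
  let P : W →+ W := proj (y := y) (r := r) (1 : L)
  refine ⟨v + w + b • v, w + b • v, t + (b ^ 2) • v, fun g g1 g2 g3 => ?_, fun e => ?_,
    free_of_two S hvw D.hv hsum D.hv0 D.free fun h => absurd h hr2⟩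
  · have hgv : g • v = v := by
      rw [add_assoc, smul_add, g2] at g1
      exact add_right_cancel g1
    obtain ⟨hgN, δ, hδr, hδ1, he1, he2⟩ := norm_v S D.hv D.hv0 D.free hgv
    have hδ2r : (δ ^ 2) ^ r = 1 := by rw [← pow_mul, mul_comm, pow_mul, hδr, one_pow]
    have hgw : g • w = w := by
      have h1 := congrArg P g2
      simpa [P, smul_add, S.proj_of_eig h1r (S.eig_iff.2 ((hgN w).2 D.hw)),
        S.proj_of_eig_ne h1r hδr (he1 _ (S.eig_b D.hv)) hδ1, S.proj_of_eig h1r (S.eig_iff.2 D.hw),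
        S.proj_of_eig_ne h1r hζr (S.eig_b D.hv) hζ1] using h1
    have hgb : g • b • v = b • v := by
      rw [smul_add, hgw] at g2
      exact add_left_cancel g2
    have hgt : g • t = t := by
      have h1 := congrArg P g3
      simpa [P, smul_add, S.proj_of_eig h1r (S.eig_iff.2 ((hgN t).2 D.ht)),
        S.proj_of_eig_ne h1r hδ2r (he2 _ (S.eig_shift 2 D.hv)) (hsq δ hδr hδ1),
        S.proj_of_eig h1r (S.eig_iff.2 D.ht),
        S.proj_of_eig_ne h1r hζ2r (S.eig_shift 2 D.hv) (hsq ζ hζr hζ1)] using h1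
    have hgb2 : g • b • b • v = b • b • v := by
      rw [smul_add, hgt, pow_two, mul_smul] at g3
      exact add_left_cancel g3
    obtain ⟨hl, hc⟩ := D.good g hgN hgv hgw hgt
    exact central_of_lift S D.hv D.hv0 D.free hgN hgv (linear_of_sub S D.hv D.hv0 hgv hl) hc hgb hgb2
  · refine hsum ?_
    have h1 := congrArg P e
    simpa [P, S.proj_of_eig h1r (S.eig_iff.2 hvw),
      S.proj_of_eig_ne h1r hζr (S.eig_b D.hv) hζ1] using h1

/-- Lifting for `r = 2`. -/
theorem lift_two [Finite Γ] (hr : r = 2) {v w t : W} (D : SubData S v w t) {u : W} (hu : u ∈ S.W0)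
    (hu0 : u ≠ 0) {c : L} (hc : c ≠ 0) :
    ∃ p q : W, ∀ g : Γ, g • (u + b • c • v) = u + b • c • v → g • p = p → g • q = q →
      Central L W B g := by
  haveI := hs.nontrivial
  haveI : NeZero r := ⟨S.prime.ne_zero⟩
  have h1r : (1 : L) ^ r = 1 := one_pow r
  have hζr : ζ ^ r = 1 := S.root.pow_eq_one
  have hζ1 : ζ ≠ 1 := S.root.ne_one S.prime.one_lt
  let P : W →+ W := proj (y := y) (r := r) (1 : L)
  refine ⟨u - v + b • c • v, t + b • c • w, fun g g1 g2 g3 => ?_⟩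
  have hgv : g • v = v := by
    have e : v = (u + b • c • v) - (u - v + b • c • v) := by abel
    rw [e, smul_sub, g1, g2]
  obtain ⟨hgN, δ, hδr, hδ1, he1, -⟩ := norm_v S D.hv D.hv0 D.free hgv
  have hcv : c • v ∈ S.W0 := S.W0.smul_mem c D.hv
  have hcw : c • w ∈ S.W0 := S.W0.smul_mem c D.hw
  have hgu : g • u = u := by
    have h1 := congrArg P g1
    simpa [P, smul_add, S.proj_of_eig h1r (S.eig_iff.2 ((hgN u).2 hu)),
      S.proj_of_eig_ne h1r hδr (he1 _ (S.eig_b hcv)) hδ1, S.proj_of_eig h1r (S.eig_iff.2 hu),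
      S.proj_of_eig_ne h1r hζr (S.eig_b hcv) hζ1] using h1
  have hgt : g • t = t := by
    have h1 := congrArg P g3
    simpa [P, smul_add, S.proj_of_eig h1r (S.eig_iff.2 ((hgN t).2 D.ht)),
      S.proj_of_eig_ne h1r hδr (he1 _ (S.eig_b hcw)) hδ1, S.proj_of_eig h1r (S.eig_iff.2 D.ht),
      S.proj_of_eig_ne h1r hζr (S.eig_b hcw) hζ1] using h1
  have hgbv : g • b • c • v = b • c • v := by
    rw [smul_add, hgu] at g1
    exact add_left_cancel g1
  have hgbw : g • b • c • w = b • c • w := by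
    rw [smul_add, hgt] at g3
    exact add_left_cancel g3
  obtain ⟨e, he⟩ := hs.semi g c
  have he0 : e ≠ 0 := fun h => hc (by
    obtain ⟨x, hx⟩ := exists_ne (0 : W)
    have h1 := he x
    rw [h, zero_smul, smul_eq_zero_iff_eq] at h1
    exact (smul_eq_zero.1 h1).resolve_right hx)
  rw [hs.lin b S.mem_b, he] at hgbv hgbw
  -- the correcting element
  obtain ⟨z, hz, hzw⟩ := hs.scal (e * c⁻¹) (mul_ne_zero he0 (inv_ne_zero hc))
  have hgbv' : g • b • v = (e⁻¹ * c) • b • v := by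
    rw [mul_smul, ← hgbv, ← mul_smul e⁻¹, inv_mul_cancel₀ he0, one_smul]
  have hxB : z * (b⁻¹ * (g * b * g⁻¹)) ∈ B :=
    B.mul_mem hz (B.mul_mem (B.inv_mem S.mem_b) (hs.normal g b S.mem_b))
  have hxv : (z * (b⁻¹ * (g * b * g⁻¹))) • v = v := by
    rw [mul_smul, mul_smul, mul_smul, mul_smul, inv_smul_eq_iff.2 hgv.symm, hgbv',
      hs.lin _ (B.inv_mem S.mem_b), inv_smul_smul, hzw, ← mul_smul,
      show e * c⁻¹ * (e⁻¹ * c) = 1 by field_simp, one_smul]
  obtain ⟨j, hj⟩ := S.eq_pow_of_fix hxB (D.free _ hxB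
    (S.mem_N_of_comm (S.comm_of_fix hxB D.hv D.hv0 (by rw [hxv]; exact D.hv))) hxv)
  have hgw : g • w = w := by
    have h1 := hj (g • w)
    rw [mul_smul z, hzw, S.y_pow_fix ((hgN w).2 D.hw), mul_smul b⁻¹, mul_smul (g * b), mul_smul g b,
      inv_smul_smul] at h1
    have h2 : b • g • w = (e * c⁻¹) • g • b • w := by
      rw [← h1, hs.lin b S.mem_b, smul_inv_smul]
    have h3 : g • b • w = (e⁻¹ * c) • b • g • w := by
      rw [h2, ← mul_smul (e⁻¹ * c), show e⁻¹ * c * (e * c⁻¹) = 1 by field_simp, one_smul]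
    rw [h3, ← mul_smul e, show e * (e⁻¹ * c) = c by field_simp] at hgbw
    exact smul_left_cancel b (((IsUnit.mk0 _ hc).smul_left_cancel).1 hgbw)
  obtain ⟨hl, hcom⟩ := D.good g hgN hgv hgw hgt
  have hlin := linear_of_sub S D.hv D.hv0 hgv hl
  have hec : e = c := scalar_unique (W := W) fun x => by
    obtain ⟨x', rfl⟩ : ∃ x', g • x' = x := ⟨g⁻¹ • x, smul_inv_smul _ _⟩
    rw [← he, hlin]
  subst hec
  have hgb : g • b • v = b • v := ((IsUnit.mk0 _ hc).smul_left_cancel).1 hgbv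
  refine central_of_lift S D.hv D.hv0 D.free hgN hgv hlin hcom hgb ?_
  rw [← mul_smul b b, ← pow_two, ← hr, S.pow_b, hlin, hgv]

/-- The triple of the fixed space gives a triple with a nonzero first vector. -/
theorem cen3_of_sub [Finite Γ] (h : @Trip ↥S.N _ L ↥S.W0 _ _ _ S.act S.B0) : Cen3 L W B := by
  by_cases hr : r = 2
  swap
  · exact (lift_odd S hr h).cen3
  haveI := hs.nontrivial
  haveI : NeZero r := ⟨S.prime.ne_zero⟩
  obtain ⟨v, w, t, D, -⟩ := sub_data S h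
  obtain ⟨p, q, hpq⟩ := lift_two S hr D D.hv D.hv0 (one_ne_zero (α := L))
  refine ⟨_, p, q, hpq, fun e => D.hv0 ?_⟩
  have h1 := congrArg (proj (y := y) (r := r) (1 : L)) e
  simpa [one_smul, S.proj_of_eig (one_pow r) (S.eig_iff.2 D.hv),
    S.proj_of_eig_ne (one_pow r) S.root.pow_eq_one (S.eig_b D.hv) (S.root.ne_one S.prime.one_lt)]
    using h1

/-- A triple from a triple on the fixed space. -/
theorem trip_of_sub [Finite Γ] [Finite L] (h : @Trip ↥S.N _ L ↥S.W0 _ _ _ S.act S.B0)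
    (hcase : r ≠ 2 ∨ 5 < Nat.card L ∨ @Rich ↥S.N _ S.B0 ↥S.W0 _ S.act) : Trip L W B := by
  by_cases hr : r = 2
  swap
  · exact lift_odd S hr h
  haveI := hs.nontrivial
  haveI : NeZero r := ⟨S.prime.ne_zero⟩
  obtain ⟨v, w, t, D, -⟩ := sub_data S h
  suffices ∃ u ∈ S.W0, u ≠ 0 ∧ ∃ c : L, c ≠ 0 ∧
      ∀ k ∈ B, ¬ (k • u = b • c • v ∧ k • b • c • v = u) by
    obtain ⟨u, hu, hu0, c, hc, hswap⟩ := this
    obtain ⟨p, q, hpq⟩ := lift_two S hr D hu hu0 hc
    refine ⟨u + b • c • v, p, q, hpq, fun e => hu0 ?_,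
      free_of_two S hu (S.W0.smul_mem c D.hv) hu0 (fun h => (smul_eq_zero.1 h).elim hc D.hv0)
        (fun x hx hxN he => D.free x hx hxN (by
          rw [hs.lin x hx] at he; exact ((IsUnit.mk0 _ hc).smul_left_cancel).1 he))
        fun _ => hswap⟩
    have h1 := congrArg (proj (y := y) (r := r) (1 : L)) e
    simpa [S.proj_of_eig (one_pow r) (S.eig_iff.2 hu),
      S.proj_of_eig_ne (one_pow r) S.root.pow_eq_one (S.eig_b (S.W0.smul_mem c D.hv))
        (S.root.ne_one S.prime.one_lt)] using h1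
  rcases hcase with h' | hq | hrich
  · exact absurd hr h'
  · refine ⟨v, D.hv, D.hv0, ?_⟩
    by_contra hno
    push Not at hno
    obtain ⟨k0, hk0, a0, b0⟩ := hno 1 one_ne_zero
    rw [one_smul] at a0 b0
    obtain ⟨c, hc, hc4⟩ := exists_unit_pow_ne (L := L) (e := 4) (by norm_num) (by omega)
    obtain ⟨k, hk, a1, b1⟩ := hno c hc
    rw [hs.lin b S.mem_b] at a1 b1
    rw [hs.lin k hk] at b1
    obtain ⟨z, hz, hzw⟩ := hs.scal c⁻¹ (inv_ne_zero hc)
    have hk' : b⁻¹ * (z * (k * k0⁻¹)) * b ∈ B :=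
      B.mul_mem (B.mul_mem (B.inv_mem S.mem_b) (B.mul_mem hz (B.mul_mem hk (B.inv_mem hk0)))) S.mem_b
    have hk'v : (b⁻¹ * (z * (k * k0⁻¹)) * b) • v = v := by
      rw [mul_smul, mul_smul, mul_smul, mul_smul, inv_smul_eq_iff.2 a0.symm, a1, hzw,
        ← mul_smul c⁻¹, inv_mul_cancel₀ hc, one_smul, inv_smul_smul]
    obtain ⟨j, hj⟩ := S.eq_pow_of_fix hk' (D.free _ hk'
      (S.mem_N_of_comm (S.comm_of_fix hk' D.hv D.hv0 (by rw [hk'v]; exact D.hv))) hk'v)
    have hkey : ∀ w : W, k • k0⁻¹ • b • w = c • b • (y ^ j) • w := fun w => by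
      rw [← hj, mul_smul, mul_smul, mul_smul, mul_smul, smul_inv_smul, hzw, ← mul_smul c,
        mul_inv_cancel₀ hc, one_smul]
    obtain ⟨w1, hw1⟩ : ∃ w1, b • w1 = v := ⟨b⁻¹ • v, smul_inv_smul _ _⟩
    have h1 : k • b • v = (c * (ζ ^ j)⁻¹) • v := by
      have h2' := hkey w1
      rw [hw1, inv_smul_eq_iff.2 b0.symm] at h2'
      have h3' := S.y_phase j w1
      rw [hw1, S.y_pow_fix D.hv] at h3'
      rw [h2', mul_smul]
      congr 1
      conv_rhs => rw [h3', ← mul_smul (ζ ^ j)⁻¹,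
        inv_mul_cancel₀ (pow_ne_zero _ (S.root.ne_zero S.prime.ne_zero)), one_smul]
    rw [h1, ← mul_smul] at b1
    have h4 : (c * (c * (ζ ^ j)⁻¹) - 1) • v = 0 := by rw [sub_smul, one_smul, b1, sub_self]
    have h5 := sub_eq_zero.1 ((smul_eq_zero.1 h4).resolve_right D.hv0)
    apply hc4
    have h6 : ((ζ ^ j)⁻¹) ^ 2 = 1 := by
      rw [inv_pow, ← pow_mul, mul_comm, pow_mul, show ζ ^ 2 = 1 by rw [← hr]; exact S.root.pow_eq_one,
        one_pow, inv_one]
    calc c ^ 4 = c ^ 4 * ((ζ ^ j)⁻¹) ^ 2 := by rw [h6, mul_one]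
      _ = (c * (c * (ζ ^ j)⁻¹)) ^ 2 := by ring
      _ = 1 := by rw [h5, one_pow]
  · letI := S.act
    obtain ⟨u, hu0, -, hu⟩ := hrich ⟨v, D.hv⟩
    refine ⟨u, u.2, fun e => hu0 (Subtype.ext e), 1, one_ne_zero, fun k hk => ?_⟩
    rintro ⟨e1, -⟩
    rw [one_smul] at e1
    have hxB : (b⁻¹ * k)⁻¹ ∈ B := B.inv_mem (B.mul_mem (B.inv_mem S.mem_b) hk)
    have hxv : (b⁻¹ * k)⁻¹ • v = (u : W) := by
      rw [inv_smul_eq_iff, mul_smul, e1, inv_smul_smul]
    exact hu ⟨(b⁻¹ * k)⁻¹, S.mem_N_of_comm (S.comm_of_fix hxB D.hv D.hv0 (by rw [hxv]; exact u.2))⟩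
      hxB (Subtype.ext hxv)

end

variable {Γ L W : Type u} [Group Γ] [Field L] [AddCommGroup W] [Module L W] [DistribMulAction Γ W]
  {B : Subgroup Γ}

/-- When `B` acts by scalars, linearity suffices. -/
theorem trip_of_scalar [Finite L] (hs : Pre Γ L W B)
    (hB : ∀ b ∈ B, ∃ c : L, ∀ w : W, b • w = c • w) : Trip L W B := by
  haveI := hs.nontrivial
  obtain ⟨v, hv⟩ := exists_ne (0 : W)
  obtain ⟨lam, -, hgen⟩ := exists_gen L
  refine ⟨v, lam • v, 0, fun g g1 g2 _ => ?_, hv, fun b hb hbv w => ?_⟩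
  · obtain ⟨e, he⟩ := hs.semi g lam
    have hel : e = lam := by
      rw [he, g1] at g2
      have h : (e - lam) • v = 0 := by rw [sub_smul, g2, sub_self]
      exact sub_eq_zero.1 ((smul_eq_zero.1 h).resolve_right hv)
    have hlin : ∀ (c : L) (w : W), g • c • w = c • g • w := by
      intro c w
      by_cases hc : c = 0
      · rw [hc, zero_smul, smul_zero, zero_smul]
      obtain ⟨n, rfl⟩ := hgen c hc
      induction n generalizing w with
      | zero => simp
      | succ n ih =>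
        rw [pow_succ', mul_smul, he, hel, mul_smul]
        by_cases hn : lam ^ n = 0
        · simp [hn]
        · rw [ih _ hn]
    refine ⟨hlin, fun b hb w => ?_⟩
    obtain ⟨c, hc⟩ := hB b hb
    rw [hc, hc, hlin]
  · obtain ⟨c, hc⟩ := hB b hb
    rw [hc] at hbv
    have h : (c - 1) • v = 0 := by rw [sub_smul, one_smul, hbv, sub_self]
    rw [hc, sub_eq_zero.1 ((smul_eq_zero.1 h).resolve_right hv), one_smul]

/-- The case of a freely acting `B`. -/
theorem trip_of_free [Finite Γ] [Finite L] (hs : Pre Γ L W B) (hfree : ∀ v : W, v ≠ 0 → Free B v) :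
    Trip L W B := by
  haveI := hs.nontrivial
  by_cases hsc : ∀ b ∈ B, ∃ c : L, ∀ w : W, b • w = c • w
  · exact trip_of_scalar hs hsc
  have hne : ∃ b ∈ B, ¬ ∃ c : L, ∀ w : W, b • w = c • w := by
    by_contra h
    exact hsc fun b hb => by by_contra h'; exact h ⟨b, hb, h'⟩
  have h2 := hs.two_of_free hfree hne
  obtain ⟨-, i, hi, j, hj, -, hjj, -, hB⟩ := hs.quaternion hfree hne
  obtain ⟨v, hv⟩ := exists_ne (0 : W)
  obtain ⟨lam, hlam0, hgen⟩ := exists_gen L
  refine ⟨v, i • v, lam • j • v, fun g g1 g2 g3 => ?_, hv, hfree v hv⟩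
  have hext : ∀ x ∈ B, ∀ x' ∈ B, x • v = x' • v → ∀ w : W, x • w = x' • w := fun x hx x' hx' h w => by
    have h1 := hfree v hv (x'⁻¹ * x) (B.mul_mem (B.inv_mem hx') hx)
      (by rw [mul_smul, h, inv_smul_smul]) w
    rw [mul_smul, inv_smul_eq_iff] at h1
    exact h1
  have hgi : ∀ w : W, g • i • w = i • g • w := fun w => by
    have := hext _ (hs.normal g i hi) i hi
      (by rw [mul_smul, mul_smul, inv_smul_eq_iff.2 g1.symm, g2]) (g • w)
    rwa [mul_smul, mul_smul, inv_smul_smul] at this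
  obtain ⟨e, he⟩ := hs.semi g lam
  rw [he] at g3
  have he0 : e ≠ 0 := fun h => by
    rw [h, zero_smul, eq_comm, smul_eq_zero, or_iff_right hlam0, smul_eq_zero_iff_eq] at g3
    exact hv g3
  obtain ⟨z, hz, hzw⟩ := hs.scal (e * lam⁻¹) (mul_ne_zero he0 (inv_ne_zero hlam0))
  have hgj : ∀ w : W, (e * lam⁻¹) • g • j • w = j • g • w := fun w => by
    have := hext _ (B.mul_mem hz (hs.normal g j hj)) j hj (by
      rw [mul_smul, mul_smul, mul_smul, inv_smul_eq_iff.2 g1.symm, hzw, mul_comm, mul_smul, g3,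
        ← mul_smul, inv_mul_cancel₀ hlam0, one_smul]) (g • w)
    rw [mul_smul, mul_smul, mul_smul, inv_smul_smul, hzw] at this
    exact this
  obtain ⟨ρ, hρ⟩ : ∃ ρ : L, ρ = e * lam⁻¹ := ⟨_, rfl⟩
  rw [← hρ] at hgj
  have hsq : ρ * ρ = 1 := by
    have h1 : (ρ * ρ) • g • j • j • v = j • j • g • v := by
      rw [mul_smul, hgj (j • v), ← hs.lin j hj, hgj v]
    rw [hjj, hjj, smul_neg, g1, smul_neg, neg_inj] at h1
    have : (ρ * ρ - 1) • v = 0 := by rw [sub_smul, one_smul, h1, sub_self]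
    exact sub_eq_zero.1 ((smul_eq_zero.1 this).resolve_right hv)
  have hlam2 : ∀ w : W, g • (lam ^ 2) • w = (lam ^ 2) • g • w := fun w => by
    rw [pow_two, mul_smul, he, he, ← mul_smul, show e * e = lam * lam by
      rw [show e = ρ * lam by rw [hρ, inv_mul_cancel_right₀ hlam0]]
      linear_combination (lam * lam) * hsq]
  have hlin := linear_of_square hs hgen h2 hlam2
  have hel : e = lam := scalar_unique (W := W) fun x => by
    obtain ⟨x', rfl⟩ : ∃ x', g • x' = x := ⟨g⁻¹ • x, smul_inv_smul _ _⟩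
    rw [← he, hlin]
  have hρ1 : ρ = 1 := by rw [hρ, hel, mul_inv_cancel₀ hlam0]
  have hgj' : ∀ w : W, g • j • w = j • g • w := fun w => by
    have := hgj w; rwa [hρ1, one_smul] at this
  refine ⟨hlin, fun b hb w => ?_⟩
  obtain ⟨c, h | h | h | h⟩ := hB b hb
  · rw [h, h, hlin]
  · rw [h, h, hlin, hgi]
  · rw [h, h, hlin, hgj']
  · rw [h, h, hlin, hgi, hgj']

/-- Triples exist outside the exceptional fields. -/
theorem trip_large [Finite L] (hL : 5 < Nat.card L ∨ (2 : L) = 0) :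
    ∀ (Γ W : Type u) [Group Γ] [Finite Γ] [AddCommGroup W] [Finite W] [Module L W]
      [DistribMulAction Γ W] (B : Subgroup Γ), Pre Γ L W B → Trip L W B := by
  intro Γ W _ _ _ _ _ _ B hs
  induction hc : Nat.card W using Nat.strong_induction_on generalizing Γ W with
  | _ c ih =>
  subst hc
  rcases hs.exists_elt_or_free with ⟨y, hy, r, hr, hyr, hyn⟩ | hfree
  · obtain ⟨b, ζ, d, S⟩ := hs.exists_step hy hr hyr hyn
    letI := S.act
    refine trip_of_sub S (ih _ S.card_lt _ _ S.B0 S.sub_pre rfl) ?_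
    rcases hL with h | h
    · exact Or.inr (Or.inl h)
    · refine Or.inl fun e => S.natCast_ne ?_
      rw [e]
      exact_mod_cast h
  · exact trip_of_free hs hfree

end CfsgLib.TripleBase
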