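import Cfsg.Agent.Lib.TripleBase.Recursion
import Cfsg.Agent.Lib.CoprimeBase.Exceptional

/-!
Settings over three or five elements: triples from certificates.
-/

set_option autoImplicit false
set_option linter.unusedSectionVars false
set_option maxRecDepth 100000

namespace CfsgLib.TripleBase

open CfsgLib.CoprimeBase (Pre Free Step Rich Big Model Rep Small)
open CfsgLib.CoprimeBase.Cert (lin srcOk run inv refutes Second)

universe u

section

variable {Γ L W : Type u} [Group Γ] [Field L] [AddCommGroup W] [Module L W] [DistribMulAction Γ W]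
  {B : Subgroup Γ} {M : Model}

theorem central_of_fix {g : Γ} (h : ∀ w : W, g • w = w) : Central L W B g :=
  ⟨fun c w => by rw [h, h], fun b _ w => by rw [h, h]⟩

/-- A certificate for two vectors together with a vector moved by the exceptional maps. -/
theorem trip_of_cert (hs : Pre Γ L W B) (R : Rep M B W) {q tab v t : ℕ} (hv : v < M.P) (hv0 : v ≠ 0)
    (ht : t < M.P)
    (htab : (List.range M.S).all (fun e => decide (inv tab (M.act e v) = e)) = true)
    (hfree : (List.range M.S).all (fun e => decide (M.act e v ≠ v) ||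
      M.units.all fun u => decide (M.act e u = u)) = true)
    (C : Second) (hC : C.ok M q tab v = true)
    (hbad : C.bad.all (fun img => match lin M q img t with
      | some z => decide (z ≠ t)
      | none => false) = true) : Trip L W B := by
  simp only [List.all_eq_true, List.mem_range, decide_eq_true_eq, Bool.or_eq_true,
    Second.ok, Bool.and_eq_true] at htab hfree hC hbad
  obtain ⟨⟨hw, hsrc⟩, hrun⟩ := hC
  refine ⟨R.ι v, R.ι C.w, R.ι t, fun g hgv hgw hgt => ?_,
    fun e => hv0 (R.inj _ hv _ R.pos (e.trans R.zero.symm)),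
    R.free_of_check hv fun e he h => (hfree e he).resolve_left fun h' => h' h⟩
  obtain ⟨img, hmem, himg⟩ := Rep.run_sound hs hv hw hgv hgw htab C.fin C.items [] []
    (fun p hp => absurd hp List.not_mem_nil) rfl hsrc
  rcases hrun img hmem with (e | e) | e
  · subst e
    exact central_of_fix (Rep.Images.fixes himg)
  · exfalso
    have hb := hbad img (List.contains_iff_mem.1 e)
    split at hb
    · next z hz =>
      obtain ⟨hzP, hgz⟩ := Rep.Images.lin himg hz
      refine (decide_eq_true_eq.mp hb) (R.inj _ hzP _ ht ?_)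
      rw [← hgz, hgt]
    · exact Bool.false_ne_true hb
  · exfalso
    obtain ⟨e', -, h'⟩ := List.any_eq_true.1 e
    simp only [Bool.and_eq_true, decide_eq_true_eq] at h'
    rw [Rep.not_refutes hs hv hgv htab himg h'.1] at h'
    exact Bool.false_ne_true h'.2

/-- A triple from the units themselves. -/
theorem trip_of_units (R : Rep M B W) (u₁ u₂ : ℕ) (h1 : u₁ < M.P) (h0 : u₁ ≠ 0)
    (hu : ∀ u ∈ M.units, u = u₁ ∨ u = u₂)
    (hf : ∀ e < M.S, M.act e u₁ = u₁ → ∀ u ∈ M.units, M.act e u = u) : Trip L W B := by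
  refine ⟨R.ι u₁, R.ι u₂, 0, fun g g1 g2 _ => central_of_fix fun w => ?_,
    fun e => h0 (R.inj _ h1 _ R.pos (e.trans R.zero.symm)), R.free_of_check h1 hf⟩
  rw [R.ext_units (g := g) (h := 1) (fun u hu' => ?_) w, one_smul]
  rw [one_smul]
  rcases hu u hu' with rfl | rfl
  exacts [g1, g2]

/-- The model in dimension four of plus type. -/
def fourModel : Model := (Model.scal 3).double.double

/-- The possible images of the units under a map fixing three given vectors. -/
def fourImg (y : ℕ) : List ℕ := [y, fourModel.add y 5, fourModel.add y 11, 27]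

/-- Such a map does not normalise the model unless it is trivial. -/
def fourKilled (y : ℕ) : Bool :=
  (List.range fourModel.S).any fun e => (List.range fourModel.S).all fun e' =>
    (fourModel.units.zip (fourImg y)).any fun p =>
      match lin fourModel 3 (fourImg y) (fourModel.act e p.1) with
      | some z => decide (z ≠ fourModel.act e' p.2)
      | none => false

theorem four_check : (List.range fourModel.P).all (fun y => decide (y = 1) || fourKilled y) = true := by
  decide +kernel

theorem four_shift : fourModel.units = [1, 3, 9, 27] ∧ fourModel.add 1 5 = 3 ∧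
    fourModel.add 1 11 = 9 ∧ fourModel.add 1 (fourModel.neg 1) = 0 ∧
    (fourModel.add 1 (fourModel.add 3 3) = 7) ∧ (fourModel.add 1 (fourModel.add 9 9) = 19) ∧
    fourModel.add (fourModel.neg 1) 3 = 5 ∧ fourModel.add (fourModel.neg 1) 9 = 11 := by
  decide +kernel

/-- A triple for the model in dimension four. -/
theorem cen3_four (hs : Pre Γ L W B) (R : Rep fourModel B W) (h3 : ∀ w : W, w + (w + w) = 0) :
    Cen3 L W B := by
  obtain ⟨hunits, h15, h111, -, h7, h19, hn5, hn11⟩ := four_shift
  have hP : fourModel.P = 81 := by decide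
  have hlt : ∀ x, x < 81 → x < fourModel.P := fun x hx => hP.symm ▸ hx
  have hadd : ∀ {x y : ℕ}, x < 81 → y < 81 → R.ι x + R.ι y = R.ι (fourModel.add x y) :=
    fun {x y} hx hy => (R.add_eq x (hlt x hx) y (hlt y hy)).2
  refine ⟨R.ι 27, R.ι 7, R.ι 19, fun g g1 g2 g3 => central_of_fix ?_,
    fun e => by have := R.inj _ (hlt 27 (by norm_num)) _ R.pos (e.trans R.zero.symm); omega⟩
  obtain ⟨y, hy, hgy⟩ := R.exists_code (g • R.ι 1)
  have hy' : y < 81 := hP ▸ hy
  -- images of the second and third unit
  have him : ∀ (a s fix : ℕ), a < 81 → s < 81 → fourModel.add (fourModel.neg 1) a = s →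
      fourModel.add 1 (fourModel.add a a) = fix → g • R.ι fix = R.ι fix →
      g • R.ι a = R.ι (fourModel.add y s) := by
    intro a s fix ha hs' hsum hfix hgfix
    have e1 : R.ι s = -R.ι 1 + R.ι a := by
      rw [(R.neg_eq 1 (hlt 1 (by norm_num))).2, ← hsum]
      exact ((R.add_eq _ (R.neg_eq 1 (hlt 1 (by norm_num))).1 a (hlt a ha)).2).symm
    have e2 : R.ι fix = R.ι 1 + (R.ι a + R.ι a) := by
      rw [← hfix, hadd ha ha]
      exact ((R.add_eq _ (hlt 1 (by norm_num)) _ (R.add_eq a (hlt a ha) a (hlt a ha)).1).2).symm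
    rw [e2, smul_add, smul_add, ← hgy] at hgfix
    rw [← hadd hy' hs', e1]
    linear_combination (norm := abel) -hgfix + h3 (g • R.ι a) - h3 (R.ι a)
  have himg : R.Images g (fourImg y) := by
    refine ⟨by rw [hunits]; rfl, fun c hc => ?_, ?_⟩
    · simp only [fourImg, List.mem_cons, List.not_mem_nil, or_false] at hc
      rcases hc with rfl | rfl | rfl | rfl
      exacts [hy, (R.add_eq y hy 5 (hlt 5 (by norm_num))).1, (R.add_eq y hy 11 (hlt 11 (by norm_num))).1,
        hlt 27 (by norm_num)]
    · rw [hunits]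
      simp only [fourImg, List.map_cons, List.map_nil, ← hgy, g1,
        him 3 5 7 (by norm_num) (by norm_num) hn5 h7 g2,
        him 9 11 19 (by norm_num) (by norm_num) hn11 h19 g3]
  have hcheck := four_check
  simp only [List.all_eq_true, List.mem_range, Bool.or_eq_true, decide_eq_true_eq] at hcheck
  rcases hcheck y hy with rfl | hk
  · refine Rep.Images.fixes (R := R) ?_
    rw [hunits]
    rwa [fourImg, h15, h111] at himg
  exfalso
  simp only [fourKilled, List.any_eq_true, List.mem_range, List.all_eq_true] at hk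
  obtain ⟨e, he, hk⟩ := hk
  obtain ⟨e', he', hconj⟩ := R.conj hs g he
  obtain ⟨⟨u, c⟩, hpair, hne⟩ := hk e' he'
  split at hne
  · next z hz =>
    obtain ⟨hzP, hgz⟩ := Rep.Images.lin himg hz
    refine (decide_eq_true_eq.mp hne) ?_
    have hu : u ∈ fourModel.units := (List.of_mem_zip hpair).1
    have hc : c ∈ fourImg y := (List.of_mem_zip hpair).2
    have hgu : g • R.ι u = R.ι c := by
      have h := himg.2.2
      rw [hunits] at hpair h
      simp only [fourImg, List.zip_cons_cons, List.zip_nil_left, List.mem_cons, List.not_mem_nil,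
        or_false, Prod.mk.injEq] at hpair
      simp only [fourImg, List.map_cons, List.map_nil, List.cons.injEq] at h
      obtain ⟨a1, a2, a3, a4, -⟩ := h
      rcases hpair with ⟨rfl, rfl⟩ | ⟨rfl, rfl⟩ | ⟨rfl, rfl⟩ | ⟨rfl, rfl⟩
      exacts [a1, a2, a3, a4]
    obtain ⟨k1, k2⟩ := R.act_eq e' he' c (himg.2.1 c hc)
    refine R.inj _ hzP _ k1 ?_
    rw [← hgz, ← (R.act_eq e he u (R.units_lt u hu)).2, hconj, hgu, k2]
  · exact Bool.false_ne_true hne

end

section

open CfsgLib.CoprimeBase.Cert

variable {Γ L W : Type u} [Group Γ] [Field L] [AddCommGroup W] [Module L W] [DistribMulAction Γ W]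
  {B : Subgroup Γ}

/-- Triples for the top models. -/
theorem top_trip {M : Model} (hM : M = fiveModel ∨ M = threePlusModel ∨ M = threeMinusModel)
    (hs : Pre Γ L W B) (R : Rep M B W) : Trip L W B ∧ Rich B W ∧ 4 * M.S + 1 ≤ M.P := by
  rcases hM with rfl | rfl | rfl
  · exact ⟨trip_of_cert hs R (t := 1) (by decide +kernel) (by decide) (by decide +kernel) five_tab
      five_free₁ (fiveSeconds.head (by decide))
      (List.all_eq_true.1 five_seconds _ (List.head_mem (by decide))) (by decide +kernel),
      five_rich R, by decide⟩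
  · exact ⟨trip_of_cert hs R (t := 3) (by decide +kernel) (by decide) (by decide +kernel) threePlus_tab
      threePlus_free₁ (threePlusSeconds.head (by decide))
      (List.all_eq_true.1 threePlus_seconds _ (List.head_mem (by decide))) (by decide +kernel),
      threePlus_rich R, by decide⟩
  · exact ⟨trip_of_cert hs R (t := 1) (by decide +kernel) (by decide) (by decide +kernel) threeMinus_tab
      threeMinus_free₁ (threeMinusSeconds.head (by decide))
      (List.all_eq_true.1 threeMinus_seconds _ (List.head_mem (by decide))) (by decide +kernel),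
      threeMinus_rich R, by decide⟩

end

variable {Γ L W : Type u} [Group Γ] [Field L] [AddCommGroup W] [Module L W] [DistribMulAction Γ W]
  {B : Subgroup Γ}

/-- What holds for every setting over a small field. -/
def Status3 {Γ : Type u} [Group Γ] (L W : Type u) [Field L] [AddCommGroup W] [Module L W]
    [DistribMulAction Γ W] (B : Subgroup Γ) (q : ℕ) : Prop :=
  (Trip L W B ∧ Big B W) ∨ ∃ M, Small q M ∧ Nonempty (Rep M B W)

theorem status3 [Finite L] {q : ℕ} (hq : q = 3 ∨ q = 5) (hL : Nat.card L = q) :
    ∀ (Γ W : Type u) [Group Γ] [Finite Γ] [AddCommGroup W] [Finite W] [Module L W]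
      [DistribMulAction Γ W] (B : Subgroup Γ), Pre Γ L W B → Status3 L W B q := by
  intro Γ W _ _ _ _ _ _ B hs
  induction hc : Nat.card W using Nat.strong_induction_on generalizing Γ W with
  | _ c ih =>
  subst hc
  have hqp : q.Prime := by rcases hq with rfl | rfl <;> norm_num
  rcases hs.exists_elt_or_free with ⟨y, hy, r, hr, hyr, hyn⟩ | hfree
  · obtain ⟨b, ζ, S, hb⟩ := hs.exists_step_one hq hL hy hr hyr hyn
    letI := S.act
    rcases ih _ S.card_lt _ _ S.B0 S.sub_pre rfl with ⟨hp, hbig⟩ | ⟨M, hM, ⟨R⟩⟩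
    · exact Or.inl ⟨trip_of_sub S hp (Or.inr (Or.inr (S.sub_pre.rich_of_big hbig))),
        S.big_of_big hbig⟩
    · rcases hM.next with h | h
      · exact Or.inr ⟨_, h, S.rep_double hb R⟩
      · obtain ⟨hp, hrich, harith⟩ := top_trip h S.sub_pre R
        refine Or.inl ⟨trip_of_sub S hp (Or.inr (Or.inr hrich)), S.big_of_sub R.img_le ?_⟩
        rwa [R.card_eq]
  · have hp := trip_of_free hs hfree
    by_cases hsc : ∀ b ∈ B, ∃ c : L, ∀ w : W, b • w = c • w
    · rcases hs.scalar_case hqp hL hsc with h | h
      · exact Or.inl ⟨hp, h⟩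
      · rcases hq with rfl | rfl
        exacts [Or.inr ⟨_, .three0, h⟩, Or.inr ⟨_, .five0, h⟩]
    · push Not at hsc
      obtain ⟨b, hb, hbn⟩ := hsc
      have hne : ∃ b ∈ B, ¬ ∃ c : L, ∀ w : W, b • w = c • w :=
        ⟨b, hb, fun ⟨c, hc⟩ => by obtain ⟨w, hw⟩ := hbn c; exact hw (hc w)⟩
      rcases hq with rfl | rfl
      · rcases hs.quat_case hL hfree hne with h | h
        exacts [Or.inl ⟨hp, h⟩, Or.inr ⟨_, .minus1, h⟩]
      · exact absurd (hs.quaternion hfree hne).1 (by rw [hL]; norm_num)

/-- Central triples in every setting. -/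
theorem cen3_all [Finite Γ] [Finite L] [Finite W] (hs : Pre Γ L W B) : Cen3 L W B := by
  haveI := hs.nontrivial
  rcases hs.exists_elt_or_free with ⟨y, hy, r, hr, hyr, hyn⟩ | hfree
  swap
  · exact (trip_of_free hs hfree).cen3
  by_cases hL5 : 5 < Nat.card L ∨ (2 : L) = 0
  · exact (trip_large hL5 Γ W B hs).cen3
  rw [not_or] at hL5
  obtain ⟨q, hq, hL⟩ : ∃ q, (q = 3 ∨ q = 5) ∧ Nat.card L = q := by
    refine ⟨_, ?_, rfl⟩
    obtain ⟨k, hk⟩ := CfsgLib.CoprimeBase.odd_card_of_two hL5.2
    have : 1 < Nat.card L := Finite.one_lt_card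
    omega
  obtain ⟨b, ζ, S, hb⟩ := hs.exists_step_one hq hL hy hr hyr hyn
  letI := S.act
  rcases status3 hq hL _ _ S.B0 S.sub_pre with ⟨hp, -⟩ | ⟨M, hM, ⟨R⟩⟩
  · exact cen3_of_sub S hp
  cases hM with
  | three0 =>
    exact cen3_of_sub S (trip_of_units R 1 1 (by decide) (by decide) (by decide) (by decide))
  | three1 =>
    obtain ⟨R'⟩ := S.rep_double hb R
    refine cen3_four hs R' fun w => ?_
    have h3 : (3 : L) = 0 := by
      haveI := CfsgLib.CoprimeBase.charP_of_card Nat.prime_three hL
      exact_mod_cast (CharP.cast_eq_zero L 3)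
    calc w + (w + w) = ((1 + (1 + 1)) : L) • w := by rw [add_smul, add_smul, one_smul]
      _ = 0 := by rw [show (1 + (1 + 1) : L) = 0 by linear_combination h3, zero_smul]
  | three2 =>
    obtain ⟨R'⟩ := S.rep_double hb R
    exact (top_trip (Or.inr (Or.inl rfl)) hs R').1.cen3
  | three3 => exact cen3_of_sub S (top_trip (Or.inr (Or.inl rfl)) S.sub_pre R).1
  | minus1 =>
    exact cen3_of_sub S (trip_of_units R 1 3 (by decide) (by decide) (by decide) (by decide))
  | minus2 =>
    obtain ⟨R'⟩ := S.rep_double hb R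
    exact (top_trip (Or.inr (Or.inr rfl)) hs R').1.cen3
  | minus3 => exact cen3_of_sub S (top_trip (Or.inr (Or.inr rfl)) S.sub_pre R).1
  | five0 =>
    exact cen3_of_sub S (trip_of_units R 1 1 (by decide) (by decide) (by decide) (by decide))
  | five1 =>
    obtain ⟨R'⟩ := S.rep_double hb R
    exact (top_trip (Or.inl rfl) hs R').1.cen3
  | five2 => exact cen3_of_sub S (top_trip (Or.inl rfl) S.sub_pre R).1

end CfsgLib.TripleBase
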